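import Cfsg.Agent.Recognition.LinearThreeThree.Plane

/-!
The recognition of `PSL(3,3)` by its order and the centraliser of an involution.
-/

set_option autoImplicit false
set_option maxRecDepth 8000

namespace Cfsg.Lib.LThreeThree

open Subgroup

universe u

theorem card_SL33 : Nat.card SL33 = 5616 := by
  have : Fact (Nat.Prime 3) := ⟨Nat.prime_three⟩
  have h := Cfsg.Lib.Classical.card_SL_mul_eq_prod (F := ZMod 3) (n := 3) (by norm_num)
  rw [ZMod.card, Fin.prod_univ_three] at h
  have h' : 2 * Nat.card SL33 = 26 * 24 * 18 := h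
  omega

variable {G : Type u} [Group G]

namespace Coords

variable (K : Coords G) [Finite G]

/-- The pairs acting compatibly. -/
def compat : Subgroup (SL33 × G) where
  carrier := {p | ∀ P : Pt13, K.pt (p.1 • P) = p.2 • K.pt P}
  one_mem' := fun P => by simp
  mul_mem' := fun {p q} hp hq P => by
    show K.pt ((p.1 * q.1) • P) = (p.2 * q.2) • K.pt P
    rw [mul_smul, mul_smul, hp, hq]
  inv_mem' := fun {p} hp P => by
    show K.pt (p.1⁻¹ • P) = p.2⁻¹ • K.pt P
    rw [eq_inv_smul_iff, ← hp, smul_inv_smul]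

include K in
theorem equiv_SL (simple : IsSimpleGroup G) (card : Nat.card G = 5616) : Nonempty (G ≃* SL33) := by
  classical
  let π : K.compat →* G := (MonoidHom.snd SL33 G).comp K.compat.subtype
  let ρ : K.compat →* SL33 := (MonoidHom.fst SL33 G).comp K.compat.subtype
  have hπ : Function.Surjective π := by
    rw [← MonoidHom.range_eq_top, ← top_le_iff, ← K.gen_top simple card, closure_le]
    rintro x (rfl | rfl | rfl | rfl)
    exacts [⟨⟨(X12, K.a), K.act_a⟩, rfl⟩, ⟨⟨(X21, K.a'), K.act_a'⟩, rfl⟩, ⟨⟨(X23, K.cc), K.act_cc⟩, rfl⟩,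
      ⟨⟨(X32, K.d), K.act_d⟩, rfl⟩]
  have hall : ∀ q : G ⧸ K.M, ∃ P, K.pt P = q := by
    intro q
    obtain ⟨g, rfl⟩ := QuotientGroup.mk_surjective q
    obtain ⟨⟨⟨A, h⟩, hA⟩, rfl⟩ := hπ g
    refine ⟨A • Pt13.aff 0 0, ?_⟩
    rw [hA (Pt13.aff 0 0)]
    show QuotientGroup.mk (h * (pw K.a' 0 * pw K.b' 0)) = _
    rw [pw_zero, pw_zero, mul_one, mul_one]
    rfl
  have hρ : Function.Injective ρ := by
    rw [injective_iff_map_eq_one]
    rintro ⟨⟨A, h⟩, hA⟩ (rfl : A = 1)
    have hcore : K.M.normalCore = ⊥ := by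
      rcases (inferInstance : K.M.normalCore.Normal).eq_bot_or_eq_top with k | k
      · exact k
      · exact absurd (normalCore_le K.M (k ▸ mem_top K.a')) K.a'_notM
    rw [normalCore_eq_ker, MonoidHom.ker_eq_bot_iff] at hcore
    have hh : MulAction.toPermHom G (G ⧸ K.M) h = MulAction.toPermHom G (G ⧸ K.M) 1 := by
      refine Equiv.ext fun q => ?_
      obtain ⟨P, rfl⟩ := hall q
      show h • K.pt P = (1 : G) • K.pt P
      rw [one_smul, ← hA P, one_smul]
    exact Subtype.ext (Prod.ext rfl (hcore hh))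
  have h1 := Nat.card_le_card_of_surjective π hπ
  have h2 := Nat.card_le_card_of_injective ρ hρ
  rw [card] at h1
  rw [card_SL33] at h2
  have hπ' := (Nat.bijective_iff_surjective_and_card π).2 ⟨hπ, by rw [card]; omega⟩
  have hρ' := (Nat.bijective_iff_injective_and_card ρ).2 ⟨hρ, by rw [card_SL33]; omega⟩
  exact ⟨(MulEquiv.ofBijective π hπ').symm.trans (MulEquiv.ofBijective ρ hρ')⟩

end Coords

theorem center_SL33 : Subgroup.center SL33 = ⊥ := by
  have : Fact (Nat.Prime 3) := ⟨Nat.prime_three⟩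
  refine Subgroup.eq_bot_of_card_eq _ ?_
  rw [Cfsg.Lib.Classical.card_center_SL, Fintype.card_fin, Nat.card_zmod]
  decide

/-- A group of order 5616 with an involution centralised by `GL(2,3)` is `PSL(3,3)`. -/
theorem equiv_PSL [Finite G] (D : Data G) :
    Nonempty (G ≃* Matrix.ProjectiveSpecialLinearGroup (Fin 3) (ZMod 3)) := by
  obtain ⟨K⟩ := D.exists_coords
  obtain ⟨e⟩ := K.equiv_SL D.simple D.card
  exact ⟨e.trans (QuotientGroup.quotientBot.symm.trans
    (QuotientGroup.quotientMulEquivOfEq center_SL33.symm))⟩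

end Cfsg.Lib.LThreeThree
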