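import Cfsg.Agent.Recognition.LinearThreeThree.Neighbours

/-!
Elements of a group of order 5616 with involution centraliser `GL(2,3)` behaving as
`x₁₂, x₂₁, x₁₃, x₃₁, x₃₂, x₂₃` of `SL(3,3)`, with the relations needed for the action on thirteen cosets.
-/

set_option autoImplicit false
set_option maxRecDepth 8000

namespace Cfsg.Lib.LThreeThree

open Subgroup Cfsg.Lib.GLTwoThree Cfsg.Lib.Order9

universe u

/-- The standard Weyl element. -/
def w0 : K48 := X0 * Y0⁻¹ * X0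

/-- The three powers of an element. -/
def p3 (x : K48) : Fin 3 → K48 := ![1, x, x⁻¹]

theorem w0_zk : w0 * w0 = zk := by decide +kernel
theorem w0_conj : w0⁻¹ * Y0 * w0 = X0⁻¹ ∧ w0 * Y0 * w0⁻¹ = X0⁻¹ ∧ w0⁻¹ * X0 * w0 = Y0⁻¹ ∧
    w0 * J0 * w0⁻¹ = zk * J0 ∧ w0⁻¹ * J0 * w0 = zk * J0 := by decide +kernel
theorem w0_mul : Y0 * w0 = X0 * Y0⁻¹ ∧ w0⁻¹ * Y0 * X0⁻¹ = zk * Y0⁻¹ ∧ X0 * Y0 * X0 = zk * Y0⁻¹ ∧
    X0 * w0 = Y0 * zk * X0⁻¹ ∧ X0 * Y0 = Y0⁻¹ * zk * X0⁻¹ := by decide +kernel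
theorem rels0 : J0 * X0 * J0 = X0⁻¹ ∧ J0 * Y0 * J0 = Y0⁻¹ ∧ X0 * zk = zk * X0 ∧ Y0 * zk = zk * Y0 ∧ zk * zk = 1 ∧
    J0 * J0 = 1 ∧ J0 * zk = zk * J0 ∧ Cube X0 ∧ Cube Y0 ∧ X0 ≠ 1 ∧ Y0 ≠ 1 ∧ J0 ≠ 1 ∧ zk ≠ 1 ∧ zk ≠ J0 := by
  decide +kernel
theorem apart0 : X0 ≠ Y0 ∧ X0 ≠ Y0⁻¹ ∧ Y0 * X0 * Y0⁻¹ ≠ 1 ∧ Y0 * X0 * Y0⁻¹ ≠ X0 ∧ Y0 * X0 * Y0⁻¹ ≠ X0⁻¹ := by
  decide +kernel
theorem gen0 : ∀ k : K48, ∃ e : Fin 2, ∃ a b c f : Fin 3,
    k = (![1, J0] e) * p3 Y0 f * p3 X0 a * p3 Y0 b * p3 X0 c := by decide +kernel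

variable {G : Type u} [Group G]

theorem shift {c p q : G} {ε : ℤ} (hpq : Commute p q) (h1 : c * p * c⁻¹ = p * q ^ ε) (h2 : c * q * c⁻¹ = q) (i j : ℤ) :
    c * (p ^ i * q ^ j) * c⁻¹ = p ^ i * q ^ (ε * i + j) := by
  calc c * (p ^ i * q ^ j) * c⁻¹ = (c * p ^ i * c⁻¹) * (c * q ^ j * c⁻¹) := by group
    _ = (c * p * c⁻¹) ^ i * (c * q * c⁻¹) ^ j := by rw [conj_zpow, conj_zpow]
    _ = _ := by rw [h1, h2, (hpq.zpow_right ε).mul_zpow, ← zpow_mul, mul_assoc, ← zpow_add]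

theorem conj_fix {g x : G} (h : g * x = x * g) : g * x * g⁻¹ = x := by rw [h, mul_inv_cancel_right]

theorem dvd_of_zpow {x : G} (hx : x * (x * x) = 1) (hx1 : x ≠ 1) {k : ℤ} (h : x ^ k = 1) : (3 : ℤ) ∣ k := by
  have h3 : orderOf x = 3 := orderOf_eq_prime (by rw [pow_succ', pow_two, hx]) hx1
  have := orderOf_dvd_iff_zpow_eq_one.2 h
  rwa [h3] at this

/-- An element fixed and inverted by the same involution is trivial if its cube is. -/
theorem pow_eq_one_of_fix {u x : G} (hu : u * u = 1) (hinv : u * x * u = x⁻¹) (hx : x * (x * x) = 1) {k : ℤ}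
    (h : x ^ k * u = u * x ^ k) : x ^ k = 1 := by
  have hu' : u⁻¹ = u := inv_eq_of_mul_eq_one_right hu
  have e : u * x ^ k * u⁻¹ = (x ^ k)⁻¹ := by
    rw [← conj_zpow, hu', hinv, inv_zpow]
  rw [← h, mul_inv_cancel_right] at e
  refine eq_one_of_sq_of_cube (mul_eq_one_iff_eq_inv.2 e) ?_
  rw [← zpow_add, ← zpow_add, show k + (k + k) = 3 * k by ring, zpow_mul,
    show x ^ (3 : ℤ) = 1 from by exact_mod_cast (show x ^ (3 : ℕ) = 1 by rw [pow_succ', pow_two, hx]), one_zpow]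

/-- The elements and their relations. -/
structure Coords (G : Type u) [Group G] where
  a : G
  a' : G
  b : G
  b' : G
  cc : G
  d : G
  t : G
  u : G
  w : G
  n : G
  hw : w = a * a'⁻¹ * a
  hn : n = d * cc⁻¹ * d
  ca : a * (a * a) = 1
  ca' : a' * (a' * a') = 1
  cb : b * (b * b) = 1
  cb' : b' * (b' * b') = 1
  cd : d * (d * d) = 1
  na : a ≠ 1
  nb : b ≠ 1
  hu : u * u = 1
  ht : t * t = 1
  htu : t * u = u * t
  ta : t * a * t = a
  ta' : t * a' * t = a'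
  tb : t * b * t = b⁻¹
  tb' : t * b' * t = b'⁻¹
  ua : u * a * u = a⁻¹
  ub : u * b * u = b⁻¹
  ua' : u * a' * u = a'⁻¹
  ab : a * b = b * a
  ad : a * d = d * a
  acc : a' * cc = cc * a'
  a'b' : a' * b' = b' * a'
  db' : d * b' = b' * d
  bcc : b * cc = cc * b
  du : d * u = u * d
  ccu : cc * u = u * cc
  r1 : cc * b' * cc⁻¹ = b' * a'
  r2 : d * a' * d⁻¹ = a' * b'
  r3 : a * b' * a⁻¹ = b' * d⁻¹
  wb' : w * b' * w⁻¹ = d⁻¹
  ccA : cc * a * cc⁻¹ = a * b ∨ cc * a * cc⁻¹ = a * b⁻¹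
  dB : d * b * d⁻¹ = b * a ∨ d * b * d⁻¹ = b * a⁻¹
  ww : w * w = t
  nn : n * n = u
  na'n : n * a' * n⁻¹ = b'
  nan : n⁻¹ * a * n = b ∨ n⁻¹ * a * n = b⁻¹
  wccw : w⁻¹ * cc * w = b ∨ w⁻¹ * cc * w = b⁻¹
  wbw : w⁻¹ * b * w = cc ∨ w⁻¹ * b * w = cc⁻¹
  wa'w : w⁻¹ * a' * w = a⁻¹
  wuw : w⁻¹ * u * w = t * u
  ndn : n⁻¹ * d * n = cc⁻¹
  dcd : d * cc * d = u * cc⁻¹
  ncd : n⁻¹ * cc * d⁻¹ = u * cc⁻¹
  ccn : cc * n = d * cc⁻¹
  aw : a * w = a' * t * a⁻¹
  aa' : a * a' = a'⁻¹ * t * a⁻¹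
  not_norm : ∀ k : ℤ, a' * a * a'⁻¹ ≠ a ^ k
  card_u : Nat.card (centralizer ({u} : Set G)) = 48
  gen : ∀ g : G, g * u = u * g → g ∈ closure ({d, cc, t} : Set G)

namespace Data

variable [Finite G] (D : Data G)
include D

theorem exists_coords : Nonempty (Coords G) := by
  obtain ⟨φ, hφdef⟩ : ∃ φ, φ = D.S.φ := ⟨_, rfl⟩
  have hinj : Function.Injective φ := hφdef ▸ D.S.inj
  have hsurjT : ∀ y : G, y * φ zk = φ zk * y → ∃ k, φ k = y := fun y hy => by
    subst hφdef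
    exact D.S.mem_range.1 (mem_centralizer_singleton_iff.2 hy)
  obtain ⟨hXinv, hYinv, hXz, hYz, hzz, hJJ, hJz, hX3, hY3, hX1, hY1, hJ1, hz1, hzJ⟩ := rels0
  obtain ⟨c1, c2, c3, c4, c5⟩ := w0_conj
  obtain ⟨m1, m2, m3, m4, m5⟩ := w0_mul
  obtain ⟨t, htd⟩ : ∃ t, t = φ zk := ⟨_, rfl⟩
  obtain ⟨j, hjd⟩ : ∃ j, j = φ J0 := ⟨_, rfl⟩
  obtain ⟨a, had⟩ : ∃ a, a = φ X0 := ⟨_, rfl⟩
  obtain ⟨a', had'⟩ : ∃ a', a' = φ Y0 := ⟨_, rfl⟩
  have hne : ∀ k : K48, k ≠ 1 → φ k ≠ 1 := fun k hk e => hk (hinj (e.trans φ.map_one.symm))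
  have F : IsFrame t j := ⟨by rw [htd, ← map_mul, hzz, map_one], htd ▸ hne _ hz1,
    by rw [hjd, ← map_mul, hJJ, map_one], hjd ▸ hne _ hJ1, by rw [htd, hjd, ← map_mul, ← map_mul, hJz],
    fun e => hzJ (hinj (by rw [← htd, ← hjd, e]))⟩
  have R : IsRoot t j a := ⟨by rw [had, htd, ← map_mul, ← map_mul, hXz],
    by rw [had, hjd, ← map_mul, ← map_mul, hXinv, map_inv],
    by rw [had, ← map_mul, ← map_mul, hX3, map_one], had ▸ hne _ hX1⟩
  have R' : IsRoot t j a' := ⟨by rw [had', htd, ← map_mul, ← map_mul, hYz],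
    by rw [had', hjd, ← map_mul, ← map_mul, hYinv, map_inv],
    by rw [had', ← map_mul, ← map_mul, hY3, map_one], had' ▸ hne _ hY1⟩
  obtain ⟨u, hud⟩ : ∃ u, u = t * j := ⟨_, rfl⟩
  have Fu : IsFrame t u := hud ▸ F.right
  have Ru : IsRoot t u a := hud ▸ R.right F
  have Ru' : IsRoot t u a' := hud ▸ R'.right F
  have htu' : u * t = j := by rw [Fu.comm.symm, hud, ← mul_assoc, F.hi, one_mul]
  have htu : t * u = j := Fu.comm.trans htu'
  have hjt : j * t = u := by rw [hud, F.comm]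
  obtain ⟨b, hb, cab⟩ := D.nbr_exists F R
  obtain ⟨d, hd, cad⟩ := D.nbr_exists Fu Ru
  have Fd : IsFrame u t := Fu.symm
  obtain ⟨ψ, hψi, hψs, hψz, hψJ, hψX, -⟩ := D.exists_std Fd hd
  obtain ⟨cc, hccd⟩ : ∃ cc, cc = ψ Y0 := ⟨_, rfl⟩
  have hψne : ∀ k : K48, k ≠ 1 → ψ k ≠ 1 := fun k hk e => hk (hψi (e.trans ψ.map_one.symm))
  -- the roots of the third pair
  have hψinv : ∀ k : K48, J0 * k * J0 = k⁻¹ → k * zk = zk * k → t * ψ k * t = (ψ k)⁻¹ := by
    intro k hk hkz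
    rcases hψJ with e | e
    · rw [← e, ← map_mul, ← map_mul, hk, map_inv]
    · have e' : t = ψ zk * ψ J0 := by rw [hψz, e, ← mul_assoc, Fd.hi, one_mul]
      rw [e', ← map_mul, ← map_mul, ← map_mul, ← map_inv]
      congr 1
      rw [show zk * J0 * k * (zk * J0) = zk * (J0 * k) * zk * J0 by group, mul_assoc zk (J0 * k) zk,
        mul_assoc J0 k zk, hkz, ← mul_assoc J0 zk, hJz, show zk * (zk * J0 * k) * J0 = (zk * zk) * (J0 * k * J0) by group,
        hzz, one_mul, hk]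
  have hcc : IsRoot u t cc := ⟨by rw [hccd, ← hψz, ← map_mul, ← map_mul, hYz],
    hccd ▸ hψinv _ hYinv hYz, by rw [hccd, ← map_mul, ← map_mul, hY3, map_one], hccd ▸ hψne _ hY1⟩
  have roots3 : ∀ e, IsRoot u t e → e = d ∨ e = d⁻¹ ∨ e = cc ∨ e = cc⁻¹ := by
    intro e he
    obtain ⟨k, rfl⟩ := hψs e he.ci
    have h1 : Cube k := hψi (by rw [map_mul, map_mul, he.cube, map_one])
    have h2 : k ≠ 1 := fun r => he.ne (by rw [r, map_one])
    have hkz : k * zk = zk * k := hψi (by rw [map_mul, map_mul, hψz, he.ci])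
    have h3 : J0 * k * J0 = k⁻¹ := by
      apply hψi
      rw [map_mul, map_mul, map_inv, ← he.inv]
      rcases hψJ with r | r <;> rw [r]
      calc u * t * ψ k * (u * t) = u * (t * ψ k * t) * u := by
            rw [show u * t = t * u from Fd.comm]; nth_rw 1 [show t * u = u * t from Fd.comm.symm]; group
        _ = u * (ψ k)⁻¹ * u := by rw [he.inv]
        _ = (ψ k)⁻¹ * (u * u) := by rw [← (Commute.inv_left he.ci).eq]; group
        _ = t * ψ k * t := by rw [Fd.hi, mul_one, he.inv]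
    rcases roots0 k h1 h2 h3 with r | r | r | r <;> rw [r]
    · exact Or.inl hψX
    · exact Or.inr (Or.inl (by rw [map_inv, hψX]))
    · exact Or.inr (Or.inr (Or.inl hccd.symm))
    · exact Or.inr (Or.inr (Or.inr (by rw [map_inv, hccd])))
  -- the roots of the first pair are apart
  have hapart : a' ≠ a ∧ a' ≠ a⁻¹ := by
    refine ⟨fun e => apart0.1 (hinj (by rw [← had, ← had', e])), fun e => apart0.2.1 (hinj ?_)⟩
    rw [map_inv, ← had, ← had', e, inv_inv]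
  -- the lower root is joined to `cc`
  have cacc : a' * cc = cc * a' := by
    obtain ⟨e, he, ce⟩ := D.nbr_exists Fu Ru'
    rcases roots3 e he with r | r | r | r
    · exfalso
      rcases D.nbr_unique Fd hd Ru Ru' cad.symm (r ▸ ce).symm with q | q
      exacts [hapart.1 q, hapart.2 q]
    · exfalso
      have : a' * d = d * a' := by
        have := (show Commute a' e from ce).inv_right
        rwa [r, inv_inv] at this
      rcases D.nbr_unique Fd hd Ru Ru' cad.symm this.symm with q | q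
      exacts [hapart.1 q, hapart.2 q]
    · exact r ▸ ce
    · have := (show Commute a' e from ce).inv_right
      rwa [r, inv_inv] at this
  -- the upper root of the second pair is joined to `cc`
  have Fb : IsFrame j t := F.symm
  have cbd : d * b ≠ b * d := (D.noncomm F R hb (hud ▸ hd) cab cad).1
  have cbcc : b * cc = cc * b := by
    have Rb' := hb.right Fb
    obtain ⟨e, he, ce⟩ := D.nbr_exists Fb.right Rb'
    have he' : IsRoot u t e := by
      have := he.right Fb.right.symm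
      rw [hjt] at this
      rwa [show u * j = t by rw [← htu', ← mul_assoc, Fd.hi, one_mul]] at this
    rcases roots3 e he' with r | r | r | r
    · exact absurd (r ▸ ce).symm cbd
    · exfalso
      have := (show Commute b e from ce).inv_right
      rw [r, inv_inv] at this
      exact cbd this.eq.symm
    · exact r ▸ ce
    · have := (show Commute b e from ce).inv_right
      rwa [r, inv_inv] at this
  -- the element exchanging the first two involutions
  obtain ⟨n, hnd⟩ : ∃ n, n = ψ w0 := ⟨_, rfl⟩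
  have hn_eq : n = d * cc⁻¹ * d := by rw [hnd, hccd, ← hψX, ← map_inv, ← map_mul, ← map_mul]; rfl
  have hnn : n * n = u := by rw [hnd, ← map_mul, w0_zk, hψz]
  have hnu : n * u = u * n := by rw [← hnn, mul_assoc]
  have hntj : n * t * n⁻¹ = j ∧ n * j * n⁻¹ = t := by
    have key : n * ψ J0 * n⁻¹ = u * ψ J0 := by rw [hnd, ← map_inv, ← map_mul, ← map_mul, c4, map_mul, hψz]
    have h1 : n * t * n⁻¹ = j := by
      rcases hψJ with e | e
      · rw [← htu', ← e]; exact key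
      · rw [e] at key
        have : n * (u * t) * n⁻¹ = u * (n * t * n⁻¹) := by rw [← mul_assoc n, hnu]; group
        rw [this, mul_right_inj, htu'] at key
        exact key
    refine ⟨h1, ?_⟩
    rw [← h1, show n * (n * t * n⁻¹) * n⁻¹ = (n * n) * t * (n * n)⁻¹ by group, hnn,
      conj_fix Fd.comm]
  obtain ⟨b', hb'd⟩ : ∃ b', b' = n * a' * n⁻¹ := ⟨_, rfl⟩
  have conjroot : ∀ x, IsRoot t j x → IsRoot j t (n * x * n⁻¹) := by
    intro x hx
    refine ⟨?_, ?_, ?_, fun e => hx.ne (conj_eq_one_iff.1 e)⟩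
    · rw [← hntj.1, show n * x * n⁻¹ * (n * t * n⁻¹) = n * (x * t) * n⁻¹ by group, hx.ci]; group
    · rw [← hntj.2, show n * j * n⁻¹ * (n * x * n⁻¹) * (n * j * n⁻¹) = n * (j * x * j) * n⁻¹ by group, hx.inv]; group
    · rw [show n * x * n⁻¹ * (n * x * n⁻¹ * (n * x * n⁻¹)) = n * (x * (x * x)) * n⁻¹ by group, hx.cube,
        mul_one, mul_inv_cancel]
  have hb' : IsRoot j t b' := hb'd ▸ conjroot a' R'
  have hncc : n * cc * n⁻¹ = d⁻¹ := by rw [hnd, hccd, ← map_inv, ← map_mul, ← map_mul, c2, map_inv, hψX]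
  have hndn : n⁻¹ * d * n = cc⁻¹ := by rw [hnd, hccd, ← hψX, ← map_inv, ← map_inv, ← map_mul, ← map_mul, c3]
  have cdb' : d * b' = b' * d := by
    have h : Commute (n * a' * n⁻¹) (n * cc * n⁻¹) := by
      show _ = _
      rw [show n * a' * n⁻¹ * (n * cc * n⁻¹) = n * (a' * cc) * n⁻¹ by group, cacc]; group
    rw [← hb'd, hncc] at h
    have := h.inv_right
    rw [inv_inv] at this
    exact this.eq.symm
  have nab : n * a * n⁻¹ = b ∨ n * a * n⁻¹ = b⁻¹ := by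
    have hc : cc * (n * a * n⁻¹) = (n * a * n⁻¹) * cc := by
      have hdn : n * d * n⁻¹ = cc⁻¹ := by
        rw [← hndn, show n⁻¹ * d * n = (n * n)⁻¹ * (n * d * n⁻¹) * (n * n) by group, hnn, inv_eq_of_mul_eq_one_right Fd.hi]
        have e : Commute u (n * d * n⁻¹) :=
          ((show Commute u n from hnu.symm).mul_right hd.ci.symm).mul_right (show Commute u n from hnu.symm).inv_right
        rw [e.eq, mul_assoc (n * d * n⁻¹) u u, Fd.hi, mul_one]
      have h : Commute (n * d * n⁻¹) (n * a * n⁻¹) := by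
        show _ = _
        rw [show n * d * n⁻¹ * (n * a * n⁻¹) = n * (d * a) * n⁻¹ by group, ← cad]; group
      rw [hdn] at h
      have := h.inv_left
      rw [inv_inv] at this
      exact this.eq
    have F3 : IsFrame u j := by have := Fd.right; rwa [htu'] at this
    have R3 : IsRoot u j cc := by have := hcc.right Fd; rwa [htu'] at this
    have hb2 : IsRoot j u b := by have := hb.right Fb; rwa [hjt] at this
    have hn2 : IsRoot j u (n * a * n⁻¹) := by have := (conjroot a R).right Fb; rwa [hjt] at this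
    exact D.nbr_unique F3 R3 hb2 hn2 cbcc.symm hc
  have ca'b' : a' * b' = b' * a' := by
    obtain ⟨e, he, ce⟩ := D.nbr_exists F R'
    -- `e` is the conjugate of a root of the first pair
    have hx : IsRoot t j (n⁻¹ * e * n) := by
      refine ⟨?_, ?_, ?_, fun r => he.ne (by rw [show e = n * (n⁻¹ * e * n) * n⁻¹ by group, r]; group)⟩
      · rw [show t = n⁻¹ * j * n by rw [← hntj.1]; group,
          show n⁻¹ * e * n * (n⁻¹ * j * n) = n⁻¹ * (e * j) * n by group, he.ci]; group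
      · rw [show j = n⁻¹ * t * n by rw [← hntj.2]; group,
          show n⁻¹ * t * n * (n⁻¹ * e * n) * (n⁻¹ * t * n) = n⁻¹ * (t * e * t) * n by group, he.inv]; group
      · rw [show n⁻¹ * e * n * (n⁻¹ * e * n * (n⁻¹ * e * n)) = n⁻¹ * (e * (e * e)) * n by group, he.cube]; group
    obtain ⟨k, hk⟩ := hsurjT _ (htd ▸ hx.ci)
    have h1 : Cube k := hinj (by rw [map_mul, map_mul, hk, hx.cube, map_one])
    have h2 : k ≠ 1 := fun r => hx.ne (by rw [← hk, r, map_one])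
    have h3 : J0 * k * J0 = k⁻¹ := hinj (by rw [map_mul, map_mul, map_inv, ← hjd, hk, hx.inv])
    have he' : e = n * φ k * n⁻¹ := by rw [hk]; group
    rcases roots0 k h1 h2 h3 with r | r | r | r
    · exfalso
      rw [r, ← had] at he'
      have cb : a' * b = b * a' := by
        rcases nab with q | q
        · rw [← q, ← he']; exact ce
        · rw [he', q] at ce
          have := (show Commute a' b⁻¹ from ce).inv_right
          rwa [inv_inv] at this
      rcases D.nbr_unique Fb hb R R' cab.symm cb.symm with s | s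
      exacts [hapart.1 s, hapart.2 s]
    · exfalso
      rw [r, map_inv, ← had] at he'
      have cb : a' * b = b * a' := by
        have e2 : n * a * n⁻¹ = e⁻¹ := by rw [he']; group
        rcases nab with q | q
        · rw [← q, e2]; exact (show Commute a' e from ce).inv_right.eq
        · rw [show b = e by rw [← inv_inv b, ← q, e2, inv_inv]]; exact ce
      rcases D.nbr_unique Fb hb R R' cab.symm cb.symm with s | s
      exacts [hapart.1 s, hapart.2 s]
    · rw [r, ← had', ← hb'd] at he'; exact he' ▸ ce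
    · rw [r, map_inv, ← had', show n * a'⁻¹ * n⁻¹ = (n * a' * n⁻¹)⁻¹ by group, ← hb'd] at he'
      rw [he'] at ce
      have := (show Commute a' b'⁻¹ from ce).inv_right
      rwa [inv_inv] at this
  -- the element of the first centraliser
  obtain ⟨w, hwd⟩ : ∃ w, w = φ w0 := ⟨_, rfl⟩
  have hw_eq : w = a * a'⁻¹ * a := by rw [hwd, had, had', ← map_inv, ← map_mul, ← map_mul]; rfl
  have hww : w * w = t := by rw [hwd, ← map_mul, w0_zk, htd]
  have hwt : w * t = t * w := by rw [← hww, mul_assoc]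
  have hwuj : w⁻¹ * u * w = j ∧ w * j * w⁻¹ = u ∧ w⁻¹ * j * w = u := by
    refine ⟨?_, ?_, ?_⟩
    · rw [hud, htd, hjd, hwd, ← map_mul, ← map_inv, ← map_mul, ← map_mul]
      congr 1
    · rw [hud, htd, hjd, hwd, ← map_inv, ← map_mul, ← map_mul, ← map_mul, c4]
    · rw [hud, htd, hjd, hwd, ← map_inv, ← map_mul, ← map_mul, ← map_mul, c5]
  have hwa' : w⁻¹ * a' * w = a⁻¹ := by rw [hwd, had', had, ← map_inv, ← map_inv, ← map_mul, ← map_mul, c1]
  have hwcc : w⁻¹ * cc * w = b ∨ w⁻¹ * cc * w = b⁻¹ := by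
    have hx : IsRoot j t (w⁻¹ * cc * w) := by
      refine ⟨?_, ?_, ?_, fun r => hcc.ne (by rw [show cc = w * (w⁻¹ * cc * w) * w⁻¹ by group, r]; group)⟩
      · rw [← hwuj.1, show w⁻¹ * cc * w * (w⁻¹ * u * w) = w⁻¹ * (cc * u) * w by group, hcc.ci]; group
      · rw [show t * (w⁻¹ * cc * w) * t = w⁻¹ * (w * t * w⁻¹ * cc * (w * t * w⁻¹)) * w by group,
          conj_fix hwt, hcc.inv]; group
      · rw [show w⁻¹ * cc * w * (w⁻¹ * cc * w * (w⁻¹ * cc * w)) = w⁻¹ * (cc * (cc * cc)) * w by group, hcc.cube]; group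
    refine D.nbr_unique F R hb hx cab ?_
    have h : Commute (w⁻¹ * a' * w) (w⁻¹ * cc * w) := by
      show _ = _
      rw [show w⁻¹ * a' * w * (w⁻¹ * cc * w) = w⁻¹ * (a' * cc) * w by group, cacc]; group
    rw [hwa'] at h
    have := h.inv_left
    rw [inv_inv] at this
    exact this.eq
  have hwb : w⁻¹ * b * w = cc ∨ w⁻¹ * b * w = cc⁻¹ := by
    have e : w⁻¹ * (w⁻¹ * cc * w) * w = cc⁻¹ := by
      rw [show w⁻¹ * (w⁻¹ * cc * w) * w = (w * w)⁻¹ * cc * (w * w) by group, hww, inv_eq_of_mul_eq_one_right F.hi, hcc.inv]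
    rcases hwcc with r | r <;> rw [r] at e
    · exact Or.inr e
    · exact Or.inl (inv_injective (by rw [← e]; group))
  -- commutators
  have F3 : IsFrame u j := by have := Fd.right; rwa [htu'] at this
  have kA : (d * b * d⁻¹ * b⁻¹ = a ∨ d * b * d⁻¹ * b⁻¹ = a⁻¹) :=
    (D.noncomm F R hb (hud ▸ hd) cab cad).2.2
  have kA' : (cc * b' * cc⁻¹ * b'⁻¹ = a' ∨ cc * b' * cc⁻¹ * b'⁻¹ = a'⁻¹) :=
    (D.noncomm F R' hb' (hud ▸ hcc) ca'b' cacc).2.2
  have kB' : (d * a' * d⁻¹ * a'⁻¹ = b' ∨ d * a' * d⁻¹ * a'⁻¹ = b'⁻¹) :=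
    (D.noncomm Fb hb' R' (hjt.symm ▸ (by have := hd.right Fd; rwa [htu'] at this)) ca'b'.symm cdb'.symm).2.2
  have kB : (cc * a * cc⁻¹ * a⁻¹ = b ∨ cc * a * cc⁻¹ * a⁻¹ = b⁻¹) :=
    (D.noncomm Fb hb R (hjt.symm ▸ (by have := hcc.right Fd; rwa [htu'] at this)) cab.symm cbcc).2.2
  have kD : (a * b' * a⁻¹ * b'⁻¹ = d ∨ a * b' * a⁻¹ * b'⁻¹ = d⁻¹) :=
    (D.noncomm Fd hd Ru (htu'.symm ▸ (by have := hb'.right Fb; rwa [hjt] at this)) cad.symm cdb').2.1
  obtain ⟨ε, hε, he⟩ : ∃ ε : ℤ, (ε = 1 ∨ ε = -1) ∧ d * a' * d⁻¹ = a' * b' ^ ε := by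
    rcases kB' with r | r
    · exact ⟨1, Or.inl rfl, by rw [zpow_one, ca'b', ← mul_inv_eq_iff_eq_mul, r]⟩
    · exact ⟨-1, Or.inr rfl, by
        rw [zpow_neg, zpow_one, (show Commute a' b' from ca'b').inv_right.eq, ← mul_inv_eq_iff_eq_mul, r]⟩
  obtain ⟨δ, hδ, hd'⟩ : ∃ δ : ℤ, (δ = 1 ∨ δ = -1) ∧ cc * b' * cc⁻¹ = b' * a' ^ δ := by
    rcases kA' with r | r
    · exact ⟨1, Or.inl rfl, by rw [zpow_one, ← ca'b', ← mul_inv_eq_iff_eq_mul, r]⟩
    · exact ⟨-1, Or.inr rfl, by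
        rw [zpow_neg, zpow_one, ← (show Commute a' b' from ca'b').inv_left.eq, ← mul_inv_eq_iff_eq_mul, r]⟩
  have hca' : Commute a' b' := ca'b'
  have hcc' : cc⁻¹ * b' * cc⁻¹⁻¹ = b' * a' ^ (-δ) := by
    have h := shift hca'.symm hd' (conj_fix cacc.symm) 1 (-δ)
    rw [mul_one, add_neg_cancel, zpow_zero, mul_one, zpow_one] at h
    nth_rw 1 [← h]
    group
  have hε1 : δ = 1 ∧ ε = 1 := by
    have h1 : n * a' * n⁻¹ = d * (cc⁻¹ * (b' ^ ε * a' ^ (1 : ℤ)) * cc⁻¹⁻¹) * d⁻¹ := by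
      rw [zpow_one, ← (hca'.zpow_right ε).eq, ← he, hn_eq]; group
    have h2 : cc⁻¹ * a' * cc⁻¹⁻¹ = a' := conj_fix (Commute.inv_left cacc.symm).eq
    rw [shift hca'.symm hcc' h2, (hca'.symm.zpow_zpow _ _).eq, shift hca' he (conj_fix cdb'), ← hb'd] at h1
    -- compare the two coordinates
    have h3 : a' ^ (-δ * ε + 1) = b' ^ (1 - (ε * (-δ * ε + 1) + ε)) := by
      rw [zpow_sub, zpow_one]; exact eq_mul_inv_of_mul_eq h1.symm
    have h4 : b' ^ (1 - (ε * (-δ * ε + 1) + ε)) = 1 := by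
      refine pow_eq_one_of_fix F.hi hb'.inv hb'.cube ?_
      rw [← h3]; exact (Commute.zpow_left R'.ci _).eq
    have d1 := dvd_of_zpow hb'.cube hb'.ne h4
    rw [h4] at h3
    have d2 := dvd_of_zpow R'.cube R'.ne h3
    rcases hε with rfl | rfl <;> rcases hδ with rfl | rfl <;>
      first | exact ⟨rfl, rfl⟩ | omega | (norm_num at d1; done) | (norm_num at d2; done) | (norm_num at d1) | (norm_num at d2)
  obtain ⟨rfl, rfl⟩ := hε1
  rw [zpow_one] at he hd'
  obtain ⟨η, hη, hh⟩ : ∃ η : ℤ, (η = 1 ∨ η = -1) ∧ a * b' * a⁻¹ = b' * d ^ η := by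
    rcases kD with r | r
    · exact ⟨1, Or.inl rfl, by rw [zpow_one, ← cdb', ← mul_inv_eq_iff_eq_mul, r]⟩
    · exact ⟨-1, Or.inr rfl, by
        rw [zpow_neg, zpow_one, ← (show Commute d b' from cdb').inv_left.eq, ← mul_inv_eq_iff_eq_mul, r]⟩
  have had2 : a'⁻¹ * d * a'⁻¹⁻¹ = d * b' ^ (1 : ℤ) := by
    rw [zpow_one, inv_inv, cdb']
    calc a'⁻¹ * d * a' = a'⁻¹ * (d * a' * d⁻¹) * d := by group
      _ = _ := by rw [he]; group
  have hw' : w * b' * w⁻¹ = b' ^ (η + 1) * d ^ (η * (η + 1) + η) := by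
    have h1 : w * b' * w⁻¹ = a * (a'⁻¹ * (d ^ η * b' ^ (1 : ℤ)) * a'⁻¹⁻¹) * a⁻¹ := by
      rw [zpow_one, ((show Commute d b' from cdb').zpow_left η).eq, ← hh, hw_eq]; group
    have hdb : Commute d b' := cdb'
    rw [h1, shift hdb had2 (conj_fix hca'.inv_left.eq), one_mul, (hdb.zpow_zpow _ _).eq,
      shift hdb.symm hh (conj_fix cad)]
  have hη1 : η = -1 := by
    rcases hη with rfl | rfl
    · exfalso
      have h5 : b' ^ ((1 : ℤ) + 1) * u = u * b' ^ ((1 : ℤ) + 1) := by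
        have hc : Commute (w * b' * w⁻¹) u := by
          show _ = _
          rw [← hwuj.2.1, show w * b' * w⁻¹ * (w * j * w⁻¹) = w * (b' * j) * w⁻¹ by group, hb'.ci]; group
        have hd2 : Commute (d ^ ((1 : ℤ) * (1 + 1) + 1))⁻¹ u := (Commute.zpow_left hd.ci _).inv_left
        have := hc.mul_left hd2
        rwa [hw', mul_inv_cancel_right] at this
      have hbu : IsRoot j u b' := by have := hb'.right Fb; rwa [hjt] at this
      have := dvd_of_zpow hb'.cube hb'.ne (pow_eq_one_of_fix Fd.hi hbu.inv hb'.cube h5)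
      norm_num at this
    · rfl
  subst hη1
  rw [show ((-1 : ℤ) + 1) = 0 by norm_num, zpow_zero, one_mul, mul_zero, zero_add, zpow_neg, zpow_one] at hw'
  rw [zpow_neg, zpow_one] at hh
  have htfix : ∀ x, x * t = t * x → t * x * t = x := fun x hx => by rw [← hx, mul_assoc, F.hi, mul_one]
  refine ⟨{
    a := a, a' := a', b := b, b' := b', cc := cc, d := d, t := t, u := u, w := w, n := n
    hw := hw_eq, hn := hn_eq
    ca := R.cube, ca' := R'.cube, cb := hb.cube, cb' := hb'.cube, cd := hd.cube, na := R.ne, nb := hb.ne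
    hu := Fd.hi, ht := F.hi, htu := Fu.comm
    ta := htfix _ R.ci, ta' := htfix _ R'.ci, tb := hb.inv, tb' := hb'.inv
    ua := Ru.inv, ub := ?_, ua' := Ru'.inv
    ab := cab, ad := cad, acc := cacc, a'b' := ca'b', db' := cdb', bcc := cbcc
    du := hd.ci, ccu := hcc.ci
    r1 := hd', r2 := he, r3 := hh, wb' := hw'
    ccA := ?_, dB := ?_
    ww := hww, nn := hnn, na'n := hb'd.symm, nan := ?_, wccw := hwcc, wbw := hwb, wa'w := hwa'
    wuw := by rw [hwuj.1, htu]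
    ndn := hndn, dcd := ?_, ncd := ?_, ccn := ?_, aw := ?_, aa' := ?_
    not_norm := ?_, card_u := (card_cent_conj (D.isConj_invol Fd.hi Fd.hi1)).symm.trans D.S.card_cent, gen := ?_ }⟩
  · have := (hb.right Fb).inv; rwa [hjt] at this
  · rcases kB with r | r
    · exact Or.inl (by rw [mul_inv_eq_iff_eq_mul.1 r, cab])
    · exact Or.inr (by rw [mul_inv_eq_iff_eq_mul.1 r, (show Commute a b from cab).inv_right.eq])
  · rcases kA with r | r
    · exact Or.inl (by rw [mul_inv_eq_iff_eq_mul.1 r, cab])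
    · exact Or.inr (by rw [mul_inv_eq_iff_eq_mul.1 r, (show Commute b a from cab.symm).inv_right.eq])
  · rcases nab with r | r
    · right
      rw [← r, show n⁻¹ * a * n = n * ((n * n)⁻¹ * a * (n * n)) * n⁻¹ by group, hnn,
        inv_eq_of_mul_eq_one_right Fd.hi, Ru.inv]
      group
    · left
      rw [← inv_inv b, ← r, show n⁻¹ * a * n = n * ((n * n)⁻¹ * a * (n * n)) * n⁻¹ by group, hnn,
        inv_eq_of_mul_eq_one_right Fd.hi, Ru.inv]
      group
  · rw [hccd, ← hψz, ← hψX, ← map_inv, ← map_mul, ← map_mul, ← map_mul, m3]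
  · rw [hnd, hccd, ← hψz, ← hψX, ← map_inv, ← map_inv, ← map_inv, ← map_mul, ← map_mul, ← map_mul, m2]
  · rw [hnd, hccd, ← hψX, ← map_inv, ← map_mul, ← map_mul, m1]
  · rw [hwd, had, had', htd, ← map_inv, ← map_mul, ← map_mul, ← map_mul, m4]
  · rw [had, had', htd, ← map_inv, ← map_inv, ← map_mul, ← map_mul, ← map_mul, m5]
  · intro k hk
    have hk' : a' * a * a'⁻¹ = φ (X0 ^ k) := by rw [hk, map_zpow, ← had]
    rw [had, had', ← map_inv, ← map_mul, ← map_mul] at hk'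
    have e := hinj hk'
    have h3 : X0 ^ (3 : ℤ) = 1 := by decide +kernel
    obtain ⟨m, rfl | rfl | rfl⟩ : ∃ m, k = 3 * m ∨ k = 3 * m + 1 ∨ k = 3 * m + 2 := ⟨k / 3, by omega⟩
    · rw [zpow_mul, h3, one_zpow] at e; exact apart0.2.2.1 e
    · rw [zpow_add, zpow_mul, h3, one_zpow, one_mul, zpow_one] at e; exact apart0.2.2.2.1 e
    · rw [zpow_add, zpow_mul, h3, one_zpow, one_mul, zpow_two, show X0 * X0 = X0⁻¹ by decide +kernel] at e
      exact apart0.2.2.2.2 e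
  · intro g hg
    obtain ⟨k, rfl⟩ := hψs g hg
    obtain ⟨e, i1, i2, i3, i4, rfl⟩ := gen0 k
    have hX : d ∈ closure ({d, cc, t} : Set G) := subset_closure (by simp)
    have hY : cc ∈ closure ({d, cc, t} : Set G) := subset_closure (by simp)
    have hT : t ∈ closure ({d, cc, t} : Set G) := subset_closure (by simp)
    have hU : u ∈ closure ({d, cc, t} : Set G) := by
      have hn : n ∈ closure ({d, cc, t} : Set G) := hn_eq ▸ mul_mem (mul_mem hX (inv_mem hY)) hX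
      exact hnn ▸ mul_mem hn hn
    have hp : ∀ (x : K48), ψ x ∈ closure ({d, cc, t} : Set G) → ∀ i, ψ (p3 x i) ∈ closure ({d, cc, t} : Set G) := by
      intro x hx i
      fin_cases i
      · exact ψ.map_one.symm ▸ one_mem _
      · exact hx
      · exact (map_inv ψ x).symm ▸ inv_mem hx
    have hpY := hp Y0 (hccd ▸ hY)
    have hpX := hp X0 (hψX.symm ▸ hX)
    rw [map_mul, map_mul, map_mul, map_mul]
    refine mul_mem (mul_mem (mul_mem (mul_mem ?_ (hpY _)) (hpX _)) (hpY _)) (hpX _)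
    fin_cases e
    · exact ψ.map_one.symm ▸ one_mem _
    · show ψ J0 ∈ _
      rcases hψJ with r | r <;> rw [r]
      · exact hT
      · exact mul_mem hU hT

end Data

end Cfsg.Lib.LThreeThree
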