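import Cfsg.Agent.Recognition.LinearThreeThree.Local

/-!
The Sylow subgroup of the centraliser of a root element and the two neighbours of a root.
-/

set_option autoImplicit false
set_option maxRecDepth 8000

namespace Cfsg.Lib.LThreeThree

open Subgroup Cfsg.Lib.GLTwoThree Cfsg.Lib.Order9

universe u

variable {G : Type u} [Group G]

theorem cube_sq {x : G} (hx : x * (x * x) = 1) : x * x = x⁻¹ := (inv_eq_of_mul_eq_one_right hx).symm

theorem eq_one_of_sq_of_cube {x : G} (h2 : x * x = 1) (h3 : x * (x * x) = 1) : x = 1 := by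
  rwa [h2, mul_one] at h3

namespace Data

variable [Finite G] (D : Data G)
include D

theorem conj_cube {i x i' x' : G} (hi : i * i = 1) (hi1 : i ≠ 1) (hx : x * (x * x) = 1) (hx1 : x ≠ 1)
    (hc : x * i = i * x) (hi' : i' * i' = 1) (hi1' : i' ≠ 1) (hx' : x' * (x' * x') = 1) (hx1' : x' ≠ 1)
    (hc' : x' * i' = i' * x') : IsConj x x' := by
  have key : ∀ i x : G, i * i = 1 → i ≠ 1 → x * (x * x) = 1 → x ≠ 1 → x * i = i * x → IsConj (D.S.φ X0) x := by
    intro i x hi hi1 hx hx1 hc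
    obtain ⟨g, hg⟩ := isConj_iff.1 (D.isConj_invol hi hi1)
    obtain ⟨k, hk⟩ := D.S.mem_range.1 (show g⁻¹ * x * g ∈ centralizer ({D.S.φ zk} : Set G) from
      mem_centralizer_singleton_iff.2 (by
        calc g⁻¹ * x * g * D.S.φ zk = g⁻¹ * (x * (g * D.S.φ zk * g⁻¹)) * g := by group
          _ = g⁻¹ * ((g * D.S.φ zk * g⁻¹) * x) * g := by rw [hg, hc]
          _ = _ := by group))
    have hxk : g * D.S.φ k * g⁻¹ = x := by rw [hk]; group
    obtain ⟨c, hc⟩ := cube_conj k (D.S.inj (by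
      rw [map_mul, map_mul, hk, map_one]
      calc g⁻¹ * x * g * (g⁻¹ * x * g * (g⁻¹ * x * g)) = g⁻¹ * (x * (x * x)) * g := by group
        _ = 1 := by rw [hx]; group)) (fun e => hx1 (by rw [← hxk, e, map_one, mul_one, mul_inv_cancel]))
    exact isConj_iff.2 ⟨g * D.S.φ c, by rw [← hxk, ← hc, map_mul, map_mul, map_inv]; group⟩
  exact (key i x hi hi1 hx hx1 hc).symm.trans (key i' x' hi' hi1' hx' hx1' hc')

omit D in
theorem card_cent_conj {x y : G} (h : IsConj x y) :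
    Nat.card (centralizer ({x} : Set G)) = Nat.card (centralizer ({y} : Set G)) := by
  obtain ⟨g, rfl⟩ := isConj_iff.1 h
  rw [show centralizer ({g * x * g⁻¹} : Set G) = (centralizer ({x} : Set G)).map (MulAut.conj g).toMonoidHom from ?_,
    Subgroup.card_map_of_injective (MulAut.conj g).injective]
  ext y
  simp only [Subgroup.mem_map, mem_centralizer_singleton_iff, MulEquiv.coe_toMonoidHom, MulAut.conj_apply]
  constructor
  · intro hy
    exact ⟨g⁻¹ * y * g, by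
      calc g⁻¹ * y * g * x = g⁻¹ * (y * (g * x * g⁻¹)) * g := by group
        _ = g⁻¹ * (g * x * g⁻¹ * y) * g := by rw [hy]
        _ = _ := by group, by group⟩
  · rintro ⟨z, hz, rfl⟩
    calc g * z * g⁻¹ * (g * x * g⁻¹) = g * (z * x) * g⁻¹ := by group
      _ = g * (x * z) * g⁻¹ := by rw [hz]
      _ = _ := by group

/-- A 3-element commuting with an involution has order at most three. -/
theorem cube_of_three {i e : G} (hi : i * i = 1) (hi1 : i ≠ 1) (he : ∃ n, e ^ (3 ^ n) = 1) (hc : e * i = i * e) :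
    e * (e * e) = 1 := by
  obtain ⟨g, hg⟩ := isConj_iff.1 (D.isConj_invol hi hi1)
  obtain ⟨k, hk⟩ := D.S.mem_range.1 (show g⁻¹ * e * g ∈ centralizer ({D.S.φ zk} : Set G) from
    mem_centralizer_singleton_iff.2 (by
      calc g⁻¹ * e * g * D.S.φ zk = g⁻¹ * (e * (g * D.S.φ zk * g⁻¹)) * g := by group
        _ = g⁻¹ * ((g * D.S.φ zk * g⁻¹) * e) * g := by rw [hg, hc]
        _ = _ := by group))
  obtain ⟨n, hn⟩ := he
  have hk3 : k ^ (3 ^ n) = 1 := D.S.inj (by
    rw [map_pow, hk, map_one]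
    have hcj := conj_pow (a := g⁻¹) (b := e) (i := 3 ^ n)
    rw [inv_inv] at hcj
    rw [hcj, hn, mul_one, inv_mul_cancel])
  have h3 : k ^ 3 = 1 := by
    obtain ⟨j, -, hj⟩ := (Nat.dvd_prime_pow Nat.prime_three).1 (orderOf_dvd_of_pow_eq_one hk3)
    have h48 : orderOf k ∣ 3 * 16 := by
      refine orderOf_dvd_of_pow_eq_one ?_
      rw [show 3 * 16 = Fintype.card K48 by rw [card48]]; exact pow_card_eq_one
    rw [hj] at h48
    refine orderOf_dvd_iff_pow_eq_one.1 (hj ▸ ?_)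
    exact Nat.Coprime.dvd_of_dvd_mul_right (Nat.Coprime.pow_left j (by norm_num : Nat.Coprime 3 16)) h48
  have he' : e = g * D.S.φ k * g⁻¹ := by rw [hk]; group
  rw [show e * (e * e) = e ^ 3 by rw [pow_succ', pow_two], he', conj_pow, ← map_pow, h3, map_one, mul_one,
    mul_inv_cancel]

/-- The normal Sylow subgroup of the centraliser of a root element. -/
theorem exists_core {i x : G} (hi : i * i = 1) (hi1 : i ≠ 1) (hx : x * (x * x) = 1) (hx1 : x ≠ 1)
    (hc : x * i = i * x) : ∃ (Q : Subgroup G) (c : ℕ), Nat.card Q = 3 ^ c ∧ c ≤ 3 ∧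
      Nat.card (centralizer ({x} : Set G)) = 2 * 3 ^ c ∧ x ∈ Q ∧ Q ≤ centralizer ({x} : Set G) ∧
      (∀ e ∈ centralizer ({x} : Set G), (∃ n, e ^ (3 ^ n) = 1) → e ∈ Q) ∧
      (∀ j : G, (j * x * j⁻¹ = x ∨ j * x * j⁻¹ = x⁻¹) → ∀ e ∈ Q, j * e * j⁻¹ ∈ Q) := by
  classical
  have : Fact (Nat.Prime 3) := ⟨Nat.prime_three⟩
  obtain ⟨c, hc3, hcard⟩ := D.card_cent_cases hi hi1 hx hx1 hc
  obtain ⟨P⟩ : Nonempty (Sylow 3 (centralizer ({x} : Set G))) := inferInstance
  have hP : Nat.card P = 3 ^ c := by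
    rw [P.card_eq_multiplicity, hcard, Nat.factorization_mul (by norm_num) (by positivity)]
    simp [Nat.Prime.factorization_pow Nat.prime_three, Nat.Prime.factorization Nat.prime_two]
  have hnorm : (P : Subgroup (centralizer ({x} : Set G))).Normal := by
    have h1 := P.card_dvd_index
    have h2 := card_sylow_modEq_one 3 (centralizer ({x} : Set G))
    have hidx : (P : Subgroup (centralizer ({x} : Set G))).index = 2 := by
      have := card_mul_index (P : Subgroup (centralizer ({x} : Set G)))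
      rw [hcard, hP, mul_comm 2] at this
      exact mul_left_cancel₀ (by positivity) this
    rw [hidx] at h1
    have := Nat.le_of_dvd (by norm_num) h1
    unfold Nat.ModEq at h2
    have : Subsingleton (Sylow 3 (centralizer ({x} : Set G))) :=
      Finite.card_le_one_iff_subsingleton.1 (by omega)
    exact Sylow.normal_of_subsingleton P
  let Q := (P : Subgroup (centralizer ({x} : Set G))).map (centralizer ({x} : Set G)).subtype
  have hall : ∀ e ∈ centralizer ({x} : Set G), (∃ n, e ^ (3 ^ n) = 1) → e ∈ Q := by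
    rintro e he ⟨n, hn⟩
    refine ⟨⟨e, he⟩, ?_, rfl⟩
    have hp : IsPGroup 3 (zpowers (⟨e, he⟩ : centralizer ({x} : Set G))) := by
      rintro ⟨_, m, rfl⟩
      refine ⟨n, Subtype.ext ?_⟩
      show ((⟨e, he⟩ : centralizer ({x} : Set G)) ^ m) ^ (3 ^ n) = 1
      rw [← zpow_natCast, ← zpow_mul, mul_comm, zpow_mul, zpow_natCast,
        show (⟨e, he⟩ : centralizer ({x} : Set G)) ^ (3 ^ n) = 1 from Subtype.ext hn, one_zpow]
    exact P.3 (hp.to_sup_of_normal_right P.2) le_sup_right ▸ Subgroup.mem_sup_left (mem_zpowers _)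
  have hQ : Nat.card Q = 3 ^ c := by rw [Subgroup.card_map_of_injective (Subgroup.subtype_injective _), hP]
  refine ⟨Q, c, hQ, hc3, hcard, hall x (mem_centralizer_singleton_iff.2 rfl)
    ⟨1, by rw [pow_one, pow_succ', pow_two, hx]⟩, Subgroup.map_subtype_le _, hall, fun j hj e he => ?_⟩
  refine hall _ ?_ ⟨c, ?_⟩
  · have hec : e * x = x * e := mem_centralizer_singleton_iff.1 (Subgroup.map_subtype_le _ he)
    refine mem_centralizer_singleton_iff.2 ?_
    have key : j * e * j⁻¹ * (j * x * j⁻¹) = j * x * j⁻¹ * (j * e * j⁻¹) := by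
      calc j * e * j⁻¹ * (j * x * j⁻¹) = j * (e * x) * j⁻¹ := by group
        _ = j * (x * e) * j⁻¹ := by rw [hec]
        _ = _ := by group
    rcases hj with h | h <;> rw [h] at key
    · exact key
    · have k2 := (Commute.inv_right key).eq
      rwa [inv_inv] at k2
  · rw [conj_pow, ← hQ, show e ^ Nat.card Q = 1 from congrArg Subtype.val (pow_card_eq_one' (x := (⟨e, he⟩ : Q))),
      mul_one, mul_inv_cancel]

/-- In an abelian group the elements not fixed by the first involution give fixed points of the others. -/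
theorem split {i j x : G} (F : IsFrame i j) (R : IsRoot i j x) (Q : Subgroup G) (h3 : IsPGroup 3 Q)
    (hQi : ∀ e ∈ Q, i * e * i⁻¹ ∈ Q) (hQj : ∀ e ∈ Q, j * e * j⁻¹ ∈ Q) (hab : ∀ a ∈ Q, ∀ b ∈ Q, a * b = b * a)
    (hx : x ∈ Q) {e : G} (he : e ∈ Q) (hne : e ∉ zpowers x) :
    ∃ b ∈ Q, b ≠ 1 ∧ (b * j = j * b ∨ b * (i * j) = i * j * b) ∧ i * b * i = b⁻¹ := by
  have hi' : i⁻¹ = i := inv_eq_of_mul_eq_one_right F.hi
  have hj' : j⁻¹ = j := inv_eq_of_mul_eq_one_right F.hj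
  obtain ⟨w, hw⟩ : ∃ w, w = e * (i * e * i)⁻¹ := ⟨_, rfl⟩
  have hiei : i * e * i ∈ Q := by
    have := hQi e he
    rwa [hi'] at this
  have hwQ : w ∈ Q := hw ▸ mul_mem he (inv_mem hiei)
  have hw1 : w ≠ 1 := by
    intro h
    have hei : e * i = i * e := by
      rw [hw, mul_inv_eq_one] at h
      calc e * i = i * e * (i * i) := by rw [← mul_assoc (i * e), ← h]
        _ = i * e := by rw [F.hi, mul_one]
    have h3e : ∃ n, e ^ (3 ^ n) = 1 := by
      obtain ⟨n, hn⟩ := h3 ⟨e, he⟩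
      exact ⟨n, congrArg Subtype.val hn⟩
    rcases D.cent_pair F.hi F.hi1 R.cube R.ne R.ci (D.cube_of_three F.hi F.hi1 h3e hei) hei (hab e he x hx)
      with r | r | r <;> rw [r] at hne
    · exact hne (one_mem _)
    · exact hne (mem_zpowers x)
    · exact hne (mul_mem (mem_zpowers x) (mem_zpowers x))
  have hwi : i * w * i = w⁻¹ := by
    rw [hw]
    calc i * (e * (i * e * i)⁻¹) * i = i * e * i⁻¹ * e⁻¹ * (i⁻¹ * i) := by group
      _ = i * e * i * e⁻¹ := by rw [hi', F.hi, mul_one]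
      _ = _ := by group
  have hjwj : j * w * j ∈ Q := by
    have := hQj w hwQ
    rwa [hj'] at this
  by_cases hv : w * (j * w * j) = 1
  · refine ⟨w, hwQ, hw1, Or.inr ?_, hwi⟩
    have hjw : j * w * j = w⁻¹ := eq_inv_of_mul_eq_one_right hv
    calc w * (i * j) = (i * w⁻¹ * i) * (i * j) := by
          rw [show i * w⁻¹ * i = (i * w * i)⁻¹ by rw [mul_inv_rev, mul_inv_rev, hi']; group, hwi, inv_inv]
      _ = i * (w⁻¹ * (i * i)) * j := by group
      _ = i * (j * w * j) * j := by rw [F.hi, mul_one, hjw]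
      _ = i * j * w * (j * j) := by group
      _ = _ := by rw [F.hj, mul_one]
  · refine ⟨w * (j * w * j), mul_mem hwQ hjwj, hv, Or.inl ?_, ?_⟩
    · calc w * (j * w * j) * j = w * j * w * (j * j) := by group
        _ = (j * j) * (w * (j * w)) := by rw [F.hj]; group
        _ = j * ((j * w * j) * w) := by group
        _ = j * (w * (j * w * j)) := by rw [hab _ hjwj w hwQ]
    · calc i * (w * (j * w * j)) * i = i * w * (i * i) * (j * w * j) * i := by rw [F.hi]; group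
        _ = (i * w * i) * ((i * j) * w * (j * i)) := by group
        _ = (i * w * i) * ((j * i) * w * (i * j)) := by rw [F.comm]
        _ = (i * w * i) * (j * (i * w * i) * j) := by group
        _ = w⁻¹ * (j * w⁻¹ * j) := by rw [hwi]
        _ = _ := by rw [hab w hwQ _ hjwj, mul_inv_rev, mul_inv_rev, mul_inv_rev, hj']; group

omit D in
/-- An involution without fixed points inverts. -/
theorem inverts_of_fpf {j : G} (hj : j * j = 1) (Q : Subgroup G) (hQj : ∀ e ∈ Q, j * e * j⁻¹ ∈ Q)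
    (hfix : ∀ e ∈ Q, e * j = j * e → e = 1) : ∀ e ∈ Q, j * e * j⁻¹ = e⁻¹ := by
  intro e he
  obtain ⟨y, hy⟩ : ∃ y : Q, (y : G)⁻¹ * (j * y * j⁻¹) = e := by
    have hinj : Function.Injective fun y : Q => (⟨(y : G)⁻¹ * (j * y * j⁻¹),
        mul_mem (inv_mem y.2) (hQj y y.2)⟩ : Q) := by
      intro a b hab
      have e' : (a : G)⁻¹ * (j * a * j⁻¹) = (b : G)⁻¹ * (j * b * j⁻¹) := congrArg Subtype.val hab
      refine Subtype.ext (mul_inv_eq_one.1 (hfix ((a : G) * (b : G)⁻¹) (mul_mem a.2 (inv_mem b.2)) ?_))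
      symm
      rw [← mul_inv_eq_iff_eq_mul]
      calc j * ((a : G) * (b : G)⁻¹) * j⁻¹ = (a : G) * ((a : G)⁻¹ * (j * a * j⁻¹)) * (j * b * j⁻¹)⁻¹ := by group
        _ = _ := by rw [e']; group
    obtain ⟨y, hy⟩ := Finite.injective_iff_surjective.1 hinj ⟨e, he⟩
    exact ⟨y, congrArg Subtype.val hy⟩
  have hji : j⁻¹ = j := inv_eq_of_mul_eq_one_right hj
  rw [← hy, hji]
  calc j * ((y : G)⁻¹ * (j * y * j)) * j = j * (y : G)⁻¹ * j * y * (j * j) := by group
    _ = _ := by rw [hj, mul_one, mul_inv_rev, mul_inv_rev, mul_inv_rev, inv_inv, hji]; group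

/-- A three-subgroup commuting with an involution has order at most three. -/
theorem le_three {i : G} (hi : i * i = 1) (hi1 : i ≠ 1) (Q : Subgroup G) (h3 : IsPGroup 3 Q)
    (hab : ∀ a ∈ Q, ∀ b ∈ Q, a * b = b * a) (hc : ∀ e ∈ Q, e * i = i * e) : Nat.card Q ≤ 3 := by
  classical
  by_cases hQ : ∀ e ∈ Q, e = 1
  · have : Nat.card Q ≤ 1 := Finite.card_le_one_iff_subsingleton.2
      ⟨fun a b => Subtype.ext ((hQ a a.2).trans (hQ b b.2).symm)⟩
    omega
  · push Not at hQ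
    obtain ⟨x, hx, hx1⟩ := hQ
    have hcube : ∀ e ∈ Q, e * (e * e) = 1 := fun e he => D.cube_of_three hi hi1
      (by obtain ⟨n, hn⟩ := h3 ⟨e, he⟩; exact ⟨n, congrArg Subtype.val hn⟩) (hc e he)
    refine le_trans (Nat.card_le_card_of_injective (fun e : Q => (⟨(e : G), ?_⟩ : zpowers x))
      fun a b h => Subtype.ext (congrArg Subtype.val h :)) ?_
    · rcases D.cent_pair hi hi1 (hcube x hx) hx1 (hc x hx) (hcube e e.2) (hc e e.2) (hab e e.2 x hx) with r | r | r <;>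
        rw [r]
      exacts [one_mem _, mem_zpowers x, mul_mem (mem_zpowers x) (mem_zpowers x)]
    · rw [Nat.card_zpowers, orderOf_eq_prime (p := 3) (by rw [pow_succ', pow_two, hcube x hx]) hx1]

theorem card_sylow (P : Sylow 3 G) : Nat.card P = 27 := by
  have : Fact (Nat.Prime 3) := ⟨Nat.prime_three⟩
  rw [P.card_eq_multiplicity, D.card, show (5616 : ℕ) = 3 ^ 3 * 208 by norm_num,
    Nat.factorization_mul (by norm_num) (by norm_num), Finsupp.add_apply,
    Nat.factorization_eq_zero_of_not_dvd (show ¬ 3 ∣ 208 by norm_num), add_zero,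
    Nat.Prime.factorization_pow Nat.prime_three, Finsupp.single_eq_same]
  norm_num

theorem center_elt (P : Sylow 3 G) : ∃ y ∈ (P : Subgroup G), y ≠ 1 ∧ ∀ e ∈ (P : Subgroup G), e * y = y * e := by
  have : Fact (Nat.Prime 3) := ⟨Nat.prime_three⟩
  have hP := D.card_sylow P
  have : Nontrivial P := Finite.one_lt_card_iff_nontrivial.1 (by omega)
  have := P.2.center_nontrivial
  obtain ⟨y, hy⟩ := exists_ne (1 : Subgroup.center P)
  exact ⟨((y : P) : G), (y : P).2, fun e => hy (Subtype.ext (Subtype.ext e)),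
    fun e he => congrArg Subtype.val (Subgroup.mem_center_iff.1 y.2 ⟨e, he⟩)⟩

theorem card_cent {i j x : G} (F : IsFrame i j) (R : IsRoot i j x) :
    Nat.card (centralizer ({x} : Set G)) = 54 := by
  classical
  have : Fact (Nat.Prime 3) := ⟨Nat.prime_three⟩
  obtain ⟨Q, c, hQ, hc3, hcard, hxQ, hQC, hall, hnorm⟩ := D.exists_core F.hi F.hi1 R.cube R.ne R.ci
  by_contra hne
  have h3Q : IsPGroup 3 Q := IsPGroup.of_card hQ
  obtain ⟨P, hP⟩ := h3Q.exists_le_sylow
  obtain ⟨y, hyP, hy1, hyc⟩ := D.center_elt P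
  have hP3 : ∀ e ∈ (P : Subgroup G), ∃ n, e ^ (3 ^ n) = 1 := fun e he => by
    obtain ⟨n, hn⟩ := P.2 ⟨e, he⟩; exact ⟨n, congrArg Subtype.val hn⟩
  have hyx : y * x = x * y := (hyc x (hP hxQ)).symm
  have hyQ : y ∈ Q := hall y (mem_centralizer_singleton_iff.2 hyx) (hP3 y hyP)
  -- a central element has the whole Sylow subgroup in its centraliser
  have hbig : ∀ i' : G, i' * i' = 1 → i' ≠ 1 → y * (y * y) = 1 → y * i' = i' * y → False := by
    intro i' hi' hi1' hy3 hyi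
    obtain ⟨Q', c', hQ', hc3', hcard', -, -, hall', -⟩ := D.exists_core hi' hi1' hy3 hy1 hyi
    have hle : Nat.card P ≤ Nat.card Q' := Subgroup.card_le_of_le fun e he =>
      hall' e (mem_centralizer_singleton_iff.2 (hyc e he)) (hP3 e he)
    rw [D.card_sylow P, hQ'] at hle
    have h27 : 3 ^ c' ≤ 3 ^ 3 := Nat.pow_le_pow_right (by norm_num) hc3'
    have : Nat.card (centralizer ({x} : Set G)) = Nat.card (centralizer ({y} : Set G)) :=
      card_cent_conj (D.conj_cube F.hi F.hi1 R.cube R.ne R.ci hi' hi1' hy3 hy1 hyi)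
    rw [hcard'] at this
    omega
  have hyzx : y ∉ zpowers x := by
    rintro ⟨m, hm⟩
    refine hbig i F.hi F.hi1 ?_ (by rw [← hm]; exact (Commute.zpow_left R.ci m).eq)
    exact D.cube_of_three F.hi F.hi1 (hP3 y hyP) (by rw [← hm]; exact (Commute.zpow_left R.ci m).eq)
  have hc2 : c = 2 := by
    have h1 : 3 < 3 ^ c := by
      by_contra hle
      have heq : Q = zpowers x := by
        refine (Subgroup.eq_of_le_of_card_ge (zpowers_le.2 hxQ) ?_).symm
        rw [Nat.card_zpowers, orderOf_eq_prime (p := 3) (by rw [pow_succ', pow_two, R.cube]) R.ne, hQ]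
        omega
      exact hyzx (heq ▸ hyQ)
    have : c ≠ 3 := fun e => hne (by rw [hcard, e]; norm_num)
    have : c ≠ 0 := fun e => by rw [e] at h1; omega
    have : c ≠ 1 := fun e => by rw [e] at h1; omega
    omega
  subst hc2
  have hQab : ∀ a ∈ Q, ∀ b ∈ Q, a * b = b * a := by
    have hcomm : IsMulCommutative Q := IsPGroup.isMulCommutative_of_card_eq_prime_sq (p := 3) hQ
    exact fun a ha b hb => congrArg Subtype.val (hcomm.is_comm.comm ⟨a, ha⟩ ⟨b, hb⟩)
  have hQi : ∀ e ∈ Q, i * e * i⁻¹ ∈ Q := hnorm i (Or.inl (by rw [← R.ci, mul_inv_cancel_right]))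
  have hQj : ∀ e ∈ Q, j * e * j⁻¹ ∈ Q := hnorm j (Or.inr (by rw [inv_eq_of_mul_eq_one_right F.hj, R.inv]))
  obtain ⟨b, hbQ, hb1, hbj, hbi⟩ := D.split F R Q h3Q hQi hQj hQab hxQ hyQ hyzx
  obtain ⟨k, hk, hk1, hbk, hxk⟩ : ∃ k : G, k * k = 1 ∧ k ≠ 1 ∧ b * k = k * b ∧ k * x * k = x⁻¹ := by
    rcases hbj with h | h
    · exact ⟨j, F.hj, F.hj1, h, R.inv⟩
    · exact ⟨i * j, F.right.hj, F.right.hj1, h, (R.right F).inv⟩
  have hbP := hP hbQ
  have hb3 : b * (b * b) = 1 := D.cube_of_three hk hk1 (hP3 b hbP) hbk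
  have hyb : y ∉ zpowers b := by
    rintro ⟨m, hm⟩
    have e : y * k = k * y := by rw [← hm]; exact (Commute.zpow_left hbk m).eq
    exact hbig k hk hk1 (D.cube_of_three hk hk1 (hP3 y hyP) e) e
  -- the elements of `Q`
  have hxb : b ∉ zpowers x := by
    rintro ⟨m, hm⟩
    have e1 : b * i = i * b := by rw [← hm]; exact (Commute.zpow_left R.ci m).eq
    have e2 : b⁻¹ = b := by rw [← hbi, ← e1, mul_assoc, F.hi, mul_one]
    exact hb1 (eq_one_of_sq_of_cube (by nth_rw 1 [← e2]; rw [inv_mul_cancel]) hb3)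
  have hx3 : x ^ 3 = 1 := by rw [pow_succ', pow_two, R.cube]
  have hb3' : b ^ 3 = 1 := by rw [pow_succ', pow_two, hb3]
  have hcoord : ∀ e ∈ Q, ∃ u v : Fin 3, e = x ^ (u : ℕ) * b ^ (v : ℕ) := by
    intro e he
    let f : Fin 3 × Fin 3 → Q := fun p => ⟨x ^ (p.1 : ℕ) * b ^ (p.2 : ℕ), mul_mem (pow_mem hxQ _) (pow_mem hbQ _)⟩
    have hf : Function.Injective f := by
      rintro ⟨u, v⟩ ⟨u', v'⟩ h
      have h' : x ^ (u : ℕ) * b ^ (v : ℕ) = x ^ (u' : ℕ) * b ^ (v' : ℕ) := congrArg Subtype.val h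
      have hbv : b ^ (v : ℕ) * (b ^ (v' : ℕ))⁻¹ ∈ zpowers x := by
        rw [show b ^ (v : ℕ) * (b ^ (v' : ℕ))⁻¹ = (x ^ (u : ℕ))⁻¹ * (x ^ (u : ℕ) * b ^ (v : ℕ)) * (b ^ (v' : ℕ))⁻¹ by
          group, h', mul_assoc, mul_assoc, mul_inv_cancel, mul_one]
        exact mul_mem (inv_mem (pow_mem (mem_zpowers x) _)) (pow_mem (mem_zpowers x) _)
      have hv : v = v' := by
        obtain ⟨z, hz⟩ : ∃ z, z = b ^ (v : ℕ) * (b ^ (v' : ℕ))⁻¹ := ⟨_, rfl⟩
        by_cases hz1 : z = 1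
        · rw [hz, mul_inv_eq_one, pow_inj_mod, orderOf_eq_prime hb3' hb1] at hz1
          exact Fin.ext (by have := v.2; have := v'.2; omega)
        · exfalso
          apply hxb
          have hzb : z ∈ zpowers b := hz ▸ mul_mem (pow_mem (mem_zpowers b) _) (inv_mem (pow_mem (mem_zpowers b) _))
          have hz3 : z ^ 3 = 1 := by
            obtain ⟨n, rfl⟩ := hzb
            show (b ^ n) ^ 3 = 1
            rw [← zpow_natCast, ← zpow_mul, mul_comm, zpow_mul, zpow_natCast, hb3', one_zpow]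
          have heq : zpowers z = zpowers b := Subgroup.eq_of_le_of_card_ge (zpowers_le.2 hzb) (by
            rw [Nat.card_zpowers, Nat.card_zpowers, orderOf_eq_prime hb3' hb1, orderOf_eq_prime hz3 hz1])
          exact (zpowers_le.2 (hz ▸ hbv)) (heq ▸ mem_zpowers b)
      subst hv
      have hu : x ^ (u : ℕ) = x ^ (u' : ℕ) := mul_right_cancel h'
      rw [pow_inj_mod, orderOf_eq_prime hx3 R.ne] at hu
      exact Prod.ext (Fin.ext (by show (u : ℕ) = u'; have := u.2; have := u'.2; omega)) rfl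
    obtain ⟨⟨u, v⟩, huv⟩ := (hf.bijective_of_nat_card_le (by simp [hQ])).2 ⟨e, he⟩
    exact ⟨u, v, (congrArg Subtype.val huv).symm⟩
  have hxbc : Commute x b := hQab x hxQ b hbQ
  obtain ⟨y', hy'⟩ : ∃ y', y' = k * y * k := ⟨_, rfl⟩
  have hkconj : ∀ u v : ℕ, k * (x ^ u * b ^ v) * k = x ^ (2 * u) * b ^ v := by
    intro u v
    have hki : k⁻¹ = k := inv_eq_of_mul_eq_one_right hk
    calc k * (x ^ u * b ^ v) * k = k * x ^ u * (b ^ v * k) := by group
      _ = (k * x ^ u * k⁻¹) * b ^ v := by rw [(Commute.pow_left hbk v).eq, hki]; group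
      _ = _ := by rw [← conj_pow, hki, hxk, ← cube_sq R.cube, ← pow_two, ← pow_mul]
  -- a conjugate of `x` by the Sylow subgroup
  obtain ⟨p, hpP, hpQ⟩ : ∃ p ∈ (P : Subgroup G), p ∉ Q := by
    by_contra! h
    have := Subgroup.card_le_of_le h
    rw [D.card_sylow P, hQ] at this
    omega
  have hQP : ∀ q ∈ (P : Subgroup G), q * x * q⁻¹ ∈ Q := by
    intro q hq
    have hidx : ((Q.subgroupOf P)).index = 3 := by
      have := card_mul_index (Q.subgroupOf P)
      rw [Nat.card_congr (subgroupOfEquivOfLe hP).toEquiv, hQ, D.card_sylow P] at this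
      omega
    have hn : (Q.subgroupOf P).Normal := Subgroup.normal_of_index_eq_minFac_card (by
      rw [hidx, D.card_sylow P]; norm_num)
    exact mem_subgroupOf.1 (hn.conj_mem ⟨x, hP hxQ⟩ (mem_subgroupOf.2 hxQ) ⟨q, hq⟩)
  have hcomm2 : ∀ q ∈ (P : Subgroup G), q * q * x = x * (q * q) → q ∈ Q := by
    intro q hq h
    have hm := hall (q * q) (mem_centralizer_singleton_iff.2 h) (hP3 _ (mul_mem hq hq))
    obtain ⟨n, hn⟩ := hP3 q hq
    have hodd : (3 : ℕ) ^ n % 2 = 1 := by rw [Nat.pow_mod]; norm_num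
    have : q = (q * q) ^ (((3 : ℕ) ^ n + 1) / 2) := by
      rw [← pow_two, ← pow_mul, show 2 * ((3 ^ n + 1) / 2) = 3 ^ n + 1 by omega, pow_succ, hn, one_mul]
    exact this ▸ pow_mem hm _
  -- the possible conjugates of `x`
  have hpos : ∀ q ∈ (P : Subgroup G), q ∉ Q → q * q ∉ Q → q * x * q⁻¹ ∈ zpowers b ∨ q * x * q⁻¹ ∈ zpowers y' := by
    intro q hq hqQ hqqQ
    obtain ⟨u, v, huv⟩ := hcoord _ (hQP q hq)
    obtain ⟨u0, v0, hy0⟩ := hcoord y hyQ
    have hy0' : y' = x ^ (2 * (u0 : ℕ)) * b ^ (v0 : ℕ) := by rw [hy', hy0, hkconj]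
    have hne1 : ∀ n : ℕ, q * x * q⁻¹ ≠ y ^ n := by
      intro n h
      refine hyzx ?_
      have hx' : x = y ^ n := by
        calc x = q⁻¹ * (q * x * q⁻¹) * q := by group
          _ = q⁻¹ * (q * y ^ n) := by rw [h, mul_assoc, ← (Commute.pow_right (hyc q hq) n).eq]
          _ = _ := inv_mul_cancel_left _ _
      rcases (show n % 3 = 0 ∨ n % 3 = 1 ∨ n % 3 = 2 by omega) with r | r | r
      · have hy3 : y ^ 3 = 1 := by
          rw [hy0, (hxbc.pow_pow _ _).mul_pow]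
          · rw [← pow_mul, ← pow_mul, mul_comm, pow_mul, hx3, one_pow, mul_comm, pow_mul, hb3', one_pow, one_mul]
        rw [pow_eq_pow_mod n hy3, r, pow_zero] at hx'
        exact absurd hx' R.ne
      · have hy3 : y ^ 3 = 1 := by
          rw [hy0, (hxbc.pow_pow _ _).mul_pow]
          · rw [← pow_mul, ← pow_mul, mul_comm, pow_mul, hx3, one_pow, mul_comm, pow_mul, hb3', one_pow, one_mul]
        rw [pow_eq_pow_mod n hy3, r, pow_one] at hx'
        exact hx' ▸ mem_zpowers x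
      · have hy3 : y ^ 3 = 1 := by
          rw [hy0, (hxbc.pow_pow _ _).mul_pow]
          · rw [← pow_mul, ← pow_mul, mul_comm, pow_mul, hx3, one_pow, mul_comm, pow_mul, hb3', one_pow, one_mul]
        rw [pow_eq_pow_mod n hy3, r] at hx'
        rw [show y = x ^ 2 by rw [hx', ← pow_mul, show 2 * 2 = 3 + 1 by norm_num, pow_add, hy3, one_mul, pow_one]]
        exact pow_mem (mem_zpowers x) _
    have hne2 : q * x * q⁻¹ ≠ x ^ 2 := by
      intro h
      refine hqqQ (hall _ (mem_centralizer_singleton_iff.2 ?_) (hP3 _ (mul_mem hq hq)))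
      rw [← mul_inv_eq_iff_eq_mul]
      calc q * q * x * (q * q)⁻¹ = q * (q * x * q⁻¹) * q⁻¹ := by group
        _ = x := by
          rw [h, ← conj_pow, h, ← pow_mul, show 2 * 2 = 3 + 1 by norm_num, pow_add, hx3, one_mul, pow_one]
    have hne3 : q * x * q⁻¹ ≠ x := fun h =>
      hqQ (hall _ (mem_centralizer_singleton_iff.2 (mul_inv_eq_iff_eq_mul.1 h)) (hP3 _ hq))
    have hu0 : (u0 : ℕ) ≠ 0 := fun e => hyb (by rw [hy0, e, pow_zero, one_mul]; exact pow_mem (mem_zpowers b) _)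
    have hv0 : (v0 : ℕ) ≠ 0 := fun e => hyzx (by rw [hy0, e, pow_zero, mul_one]; exact pow_mem (mem_zpowers x) _)
    by_cases hu : (u : ℕ) = 0
    · left; rw [huv, hu, pow_zero, one_mul]; exact pow_mem (mem_zpowers b) _
    right
    by_cases hv : (v : ℕ) = 0
    · exfalso
      rw [hv, pow_zero, mul_one] at huv
      rcases (show (u : ℕ) = 1 ∨ (u : ℕ) = 2 by omega) with r | r
      · exact hne3 (by rw [huv, r, pow_one])
      · exact hne2 (by rw [huv, r])
    -- a multiple of `y` or of `y'`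
    have hmul : ∀ n : ℕ, ∀ z : G, z = x ^ (u0 : ℕ) * b ^ (v0 : ℕ) ∨ z = x ^ (2 * (u0 : ℕ)) * b ^ (v0 : ℕ) →
        ∀ w : ℕ, z = x ^ w * b ^ (v0 : ℕ) → z ^ n = x ^ ((w * n) % 3) * b ^ (((v0 : ℕ) * n) % 3) := by
      intro n z _ w hw
      rw [hw, (hxbc.pow_pow _ _).mul_pow, ← pow_mul, ← pow_mul, ← pow_eq_pow_mod _ hx3,
        ← pow_eq_pow_mod _ hb3']
    obtain ⟨n, hn⟩ : ∃ n, (((u0 : ℕ) * n) % 3 = u ∧ ((v0 : ℕ) * n) % 3 = v) ∨
        ((2 * (u0 : ℕ) * n) % 3 = u ∧ ((v0 : ℕ) * n) % 3 = v) := by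
      have := (by decide : ∀ u v u0 v0 : Fin 3, (u : ℕ) ≠ 0 → (v : ℕ) ≠ 0 → (u0 : ℕ) ≠ 0 → (v0 : ℕ) ≠ 0 →
        ∃ n : Fin 3, (((u0 : ℕ) * n) % 3 = u ∧ ((v0 : ℕ) * n) % 3 = v) ∨
          ((2 * (u0 : ℕ) * n) % 3 = u ∧ ((v0 : ℕ) * n) % 3 = v)) u v u0 v0 hu hv hu0 hv0
      obtain ⟨n, hn⟩ := this
      exact ⟨n, hn⟩
    rcases hn with ⟨h1, h2⟩ | ⟨h1, h2⟩
    · exact absurd (by rw [huv, hmul n y (Or.inl hy0) _ hy0, h1, h2]) (hne1 n)
    · rw [huv, ← h1, ← h2, ← hmul n y' (Or.inr hy0') _ hy0']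
      exact pow_mem (mem_zpowers y') _
  have hqq : p * p ∉ Q := fun h => hpQ (by
    obtain ⟨n, hn⟩ := hP3 p hpP
    have hodd : (3 : ℕ) ^ n % 2 = 1 := by rw [Nat.pow_mod]; norm_num
    have : p = (p * p) ^ (((3 : ℕ) ^ n + 1) / 2) := by
      rw [← pow_two, ← pow_mul, show 2 * ((3 ^ n + 1) / 2) = 3 ^ n + 1 by omega, pow_succ, hn, one_mul]
    exact this ▸ pow_mem h _)
  have hp4 : p * p * (p * p) ∉ Q := fun h => hqq (by
    obtain ⟨n, hn⟩ := hP3 (p * p) (mul_mem hpP hpP)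
    have hodd : (3 : ℕ) ^ n % 2 = 1 := by rw [Nat.pow_mod]; norm_num
    have : p * p = (p * p * (p * p)) ^ (((3 : ℕ) ^ n + 1) / 2) := by
      rw [← pow_two (p * p), ← pow_mul, show 2 * ((3 ^ n + 1) / 2) = 3 ^ n + 1 by omega, pow_succ, hn, one_mul]
    exact this ▸ pow_mem h _)
  -- some conjugate of `x` is a power of `y'`, so `y` is inverted by an involution commuting with its conjugate
  obtain ⟨q, hqP, hq⟩ : ∃ q ∈ (P : Subgroup G), q * x * q⁻¹ ∈ zpowers y' := by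
    rcases hpos p hpP hpQ hqq with h | h
    swap; · exact ⟨p, hpP, h⟩
    rcases hpos (p * p) (mul_mem hpP hpP) hqq hp4 with h' | h'
    swap; · exact ⟨p * p, mul_mem hpP hpP, h'⟩
    exfalso
    obtain ⟨m, hm⟩ := h
    obtain ⟨m', hm'⟩ := h'
    simp only at hm hm'
    have hne : p * x * p⁻¹ ≠ 1 := fun e => R.ne (conj_eq_one_iff.1 e)
    have hgen : zpowers (p * x * p⁻¹) = zpowers b := by
      refine Subgroup.eq_of_le_of_card_ge (zpowers_le.2 ⟨m, hm⟩) ?_
      rw [Nat.card_zpowers, Nat.card_zpowers, orderOf_eq_prime (p := 3) hb3' hb1,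
        orderOf_eq_prime (p := 3) (by rw [conj_pow, hx3, mul_one, mul_inv_cancel]) hne]
    obtain ⟨r, hr⟩ : p * p * x * (p * p)⁻¹ ∈ zpowers (p * x * p⁻¹) := hgen ▸ ⟨m', hm'⟩
    simp only at hr
    refine hpQ (hall p (mem_centralizer_singleton_iff.2 ?_) (hP3 p hpP))
    have e1 : p * x * p⁻¹ = x ^ r := by
      calc p * x * p⁻¹ = p⁻¹ * (p * p * x * (p * p)⁻¹) * p := by group
        _ = p⁻¹ * (p * x ^ r * p⁻¹) * p := by rw [← hr, conj_zpow]
        _ = _ := by group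
    exfalso
    exact hxb (by
      obtain ⟨n, hn⟩ : b ∈ zpowers (p * x * p⁻¹) := hgen ▸ mem_zpowers b
      simp only at hn
      rw [← hn, e1, ← zpow_mul]
      exact zpow_mem (mem_zpowers x) _)
  obtain ⟨m, hm⟩ := hq
  simp only at hm
  obtain ⟨c', hc'⟩ : ∃ c', c' = k * q := ⟨_, rfl⟩
  have hki : k⁻¹ = k := inv_eq_of_mul_eq_one_right hk
  have hz : c' * x * c'⁻¹ = y ^ m := by
    rw [hc', mul_inv_rev, show k * q * x * (q⁻¹ * k⁻¹) = k * (q * x * q⁻¹) * k⁻¹ by group, ← hm, ← conj_zpow, hy']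
    congr 1
    rw [hki]
    calc k * (k * y * k) * k = (k * k) * y * (k * k) := by group
      _ = y := by rw [hk, one_mul, mul_one]
  have hyi : y * (c' * i * c'⁻¹) = c' * i * c'⁻¹ * y := by
    have hcm : (c' * x * c'⁻¹) * (c' * i * c'⁻¹) = c' * i * c'⁻¹ * (c' * x * c'⁻¹) := by
      calc c' * x * c'⁻¹ * (c' * i * c'⁻¹) = c' * (x * i) * c'⁻¹ := by group
        _ = _ := by rw [R.ci]; group
    rw [hz] at hcm
    obtain ⟨u0, v0, hy0⟩ := hcoord y hyQ
    have hy3 : y ^ (3 : ℕ) = 1 := by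
      rw [hy0, (hxbc.pow_pow _ _).mul_pow, ← pow_mul, ← pow_mul, mul_comm, pow_mul, hx3, one_pow, mul_comm,
        pow_mul, hb3', one_pow, one_mul]
    have hm3 : ¬ (3 : ℤ) ∣ m := by
      rintro ⟨d, rfl⟩
      rw [zpow_mul, show y ^ (3 : ℤ) = 1 from by exact_mod_cast hy3, one_zpow] at hz
      exact R.ne (conj_eq_one_iff.1 hz)
    have hy_eq : y = (y ^ m) ^ m := by
      obtain ⟨d, hd⟩ : ∃ d : ℤ, m * m = 3 * d + 1 := by
        refine ⟨(m * m - 1) / 3, ?_⟩
        have : (m * m) % 3 = 1 := by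
          rw [Int.mul_emod]
          rcases (show m % 3 = 1 ∨ m % 3 = 2 by omega) with r | r <;> rw [r] <;> rfl
        omega
      rw [← zpow_mul, hd, zpow_add, zpow_mul, show y ^ (3 : ℤ) = 1 from by exact_mod_cast hy3, one_zpow, one_mul,
        zpow_one]
    rw [hy_eq]
    exact (Commute.zpow_left hcm m).eq
  refine hbig (c' * i * c'⁻¹) ?_ ?_ (D.cube_of_three ?_ ?_ (hP3 y hyP) hyi) hyi
  all_goals first
    | (rw [show c' * i * c'⁻¹ * (c' * i * c'⁻¹) = c' * (i * i) * c'⁻¹ by group, F.hi, mul_one, mul_inv_cancel])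
    | exact fun e => F.hi1 (conj_eq_one_iff.1 e)

end Data

end Cfsg.Lib.LThreeThree
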