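import Cfsg.Agent.TwoFusion.GLTwoThree.Simple

/-!
Root elements for a four-group in a group of order 5616 with involution centraliser `GL(2,3)`:
the order of their centralisers.
-/

set_option autoImplicit false
set_option maxRecDepth 8000

namespace Cfsg.Lib.LThreeThree

open Subgroup Cfsg.Lib.GLTwoThree Cfsg.Lib.Order9

universe u

/-- The standard involution. -/
def J0 : K48 := ⟨((1, 0), (0, -1)), by decide⟩
/-- The standard upper root element. -/
def X0 : K48 := ⟨((1, 0), (1, 1)), by decide⟩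
/-- The standard lower root element. -/
def Y0 : K48 := ⟨((1, 1), (0, 1)), by decide⟩

theorem transport : ∀ J x : K48, Invol J → J ≠ zk → Cube x → x ≠ 1 → J * x * J = x⁻¹ →
    ∃ g : K48, (g * J0 * g⁻¹ = J ∨ g * J0 * g⁻¹ = zk * J) ∧ g * X0 * g⁻¹ = x := by
  decide +kernel

theorem roots0 : ∀ r : K48, Cube r → r ≠ 1 → J0 * r * J0 = r⁻¹ →
    r = X0 ∨ r = X0⁻¹ ∨ r = Y0 ∨ r = Y0⁻¹ := by
  decide +kernel

theorem cent3 : ∀ k x : K48, Cube x → x ≠ 1 → Cube k → k * x = x * k → k = 1 ∨ k = x ∨ k = x * x := by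
  decide +kernel

theorem cube_conj : ∀ x : K48, Cube x → x ≠ 1 → ∃ g : K48, g * X0 * g⁻¹ = x := by decide +kernel

variable (G : Type u) [Group G]

/-- The situation. -/
structure Data where
  S : GLTwoThree.Setup G
  card : Nat.card G = 5616
  simple : IsSimpleGroup G

variable {G}

/-- A four-group of involutions given by two of them, and a root element of the first inverted by the second. -/
structure IsRoot (i j x : G) : Prop where
  ci : x * i = i * x
  inv : j * x * j = x⁻¹
  cube : x * (x * x) = 1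
  ne : x ≠ 1

/-- A four-group of involutions. -/
structure IsFrame (i j : G) : Prop where
  hi : i * i = 1
  hi1 : i ≠ 1
  hj : j * j = 1
  hj1 : j ≠ 1
  comm : i * j = j * i
  ne : i ≠ j

theorem IsFrame.symm {i j : G} (F : IsFrame i j) : IsFrame j i :=
  ⟨F.hj, F.hj1, F.hi, F.hi1, F.comm.symm, F.ne.symm⟩

theorem IsFrame.right {i j : G} (F : IsFrame i j) : IsFrame i (i * j) := by
  refine ⟨F.hi, F.hi1, ?_, ?_, ?_, ?_⟩
  · calc i * j * (i * j) = i * (j * i) * j := by group
      _ = (i * i) * (j * j) := by rw [← F.comm]; group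
      _ = 1 := by rw [F.hi, F.hj, one_mul]
  · exact fun e => F.ne (by rw [← inv_eq_of_mul_eq_one_left F.hi] ; exact (inv_eq_of_mul_eq_one_right e))
  · calc i * (i * j) = i * (j * i) := by rw [F.comm]
      _ = _ := by group
  · exact fun e => F.hj1 (mul_eq_left.1 e.symm)

theorem IsRoot.inv_root {i j x : G} (R : IsRoot i j x) (hj : j * j = 1) : IsRoot i j x⁻¹ := by
  refine ⟨(Commute.inv_left R.ci).eq, ?_, ?_, inv_ne_one.2 R.ne⟩
  · have hji : j⁻¹ = j := inv_eq_of_mul_eq_one_right hj
    rw [inv_inv]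
    calc j * x⁻¹ * j = j⁻¹ * x⁻¹ * j⁻¹ := by rw [hji]
      _ = (j * x * j)⁻¹ := by group
      _ = x := by rw [R.inv, inv_inv]
  · rw [← mul_inv_rev, ← mul_inv_rev, show x * x * x = x * (x * x) by group, R.cube, inv_one]

theorem IsRoot.right {i j x : G} (R : IsRoot i j x) (F : IsFrame i j) : IsRoot i (i * j) x := by
  refine ⟨R.ci, ?_, R.cube, R.ne⟩
  calc i * j * x * (i * j) = i * (j * x * (j * i)) := by rw [← F.comm]; group
    _ = i * (j * x * j) * i := by group
    _ = i * x⁻¹ * i := by rw [R.inv]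
    _ = x⁻¹ * (i * i) := by rw [← (Commute.inv_left R.ci).eq]; group
    _ = x⁻¹ := by rw [F.hi, mul_one]

namespace Data

variable [Finite G] (D : Data G)
include D

theorem isConj_invol {i : G} (hi : i * i = 1) (hi1 : i ≠ 1) : IsConj (D.S.φ zk) i :=
  D.S.exists_conj_of_invol hi hi1

/-- The centraliser of an involution as an image of the model, adapted to a root element. -/
theorem exists_std {i j x : G} (F : IsFrame i j) (R : IsRoot i j x) : ∃ ψ : K48 →* G, Function.Injective ψ ∧
    (∀ y : G, y * i = i * y → ∃ k, ψ k = y) ∧ ψ zk = i ∧ (ψ J0 = j ∨ ψ J0 = i * j) ∧ ψ X0 = x ∧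
    ∃ c : G, ∀ k, ψ k = c * D.S.φ k * c⁻¹ := by
  obtain ⟨g, hg⟩ := isConj_iff.1 (D.isConj_invol F.hi F.hi1)
  let ψ₁ : K48 →* G := (MulAut.conj g).toMonoidHom.comp D.S.φ
  have happ : ∀ k, ψ₁ k = g * D.S.φ k * g⁻¹ := fun k => rfl
  have hinj₁ : Function.Injective ψ₁ := (MulAut.conj g).injective.comp D.S.inj
  have hz₁ : ψ₁ zk = i := hg
  have hsurj₁ : ∀ y : G, y * i = i * y → ∃ k, ψ₁ k = y := by
    intro y hy
    obtain ⟨k, hk⟩ := D.S.mem_range.1 (show g⁻¹ * y * g ∈ centralizer ({D.S.φ zk} : Set G) from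
      mem_centralizer_singleton_iff.2 (by
        calc g⁻¹ * y * g * D.S.φ zk = g⁻¹ * (y * (g * D.S.φ zk * g⁻¹)) * g := by group
          _ = g⁻¹ * ((g * D.S.φ zk * g⁻¹) * y) * g := by rw [hg, hy]
          _ = _ := by group))
    exact ⟨k, by rw [happ, hk]; group⟩
  obtain ⟨J, hJ⟩ := hsurj₁ j F.comm.symm
  obtain ⟨X, hX⟩ := hsurj₁ x R.ci
  obtain ⟨c, hcJ, hcX⟩ := transport J X ⟨hinj₁ (by rw [map_mul, hJ, F.hj, map_one]),
      fun e => F.hj1 (by rw [← hJ, e, map_one])⟩ (fun e => F.ne (by rw [← hJ, e, hz₁]))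
    (hinj₁ (by rw [map_mul, map_mul, hX, R.cube, map_one])) (fun e => R.ne (by rw [← hX, e, map_one]))
    (hinj₁ (by rw [map_mul, map_mul, map_inv, hJ, hX, R.inv]))
  refine ⟨ψ₁.comp (MulAut.conj c).toMonoidHom, hinj₁.comp (MulAut.conj c).injective, fun y hy => ?_, ?_, ?_, ?_,
    ⟨g * D.S.φ c, fun k => ?_⟩⟩
  · obtain ⟨k, rfl⟩ := hsurj₁ y hy
    exact ⟨c⁻¹ * k * c, by show ψ₁ (c * (c⁻¹ * k * c) * c⁻¹) = _; congr 1; group⟩
  · show ψ₁ (c * zk * c⁻¹) = i
    rw [zk_center, mul_inv_cancel_right, hz₁]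
  · show ψ₁ (c * J0 * c⁻¹) = j ∨ ψ₁ (c * J0 * c⁻¹) = i * j
    rcases hcJ with e | e <;> rw [e]
    · exact Or.inl hJ
    · exact Or.inr (by rw [map_mul, hz₁, hJ])
  · show ψ₁ (c * X0 * c⁻¹) = x
    rw [hcX, hX]
  · show g * D.S.φ (c * k * c⁻¹) * g⁻¹ = _
    rw [map_mul, map_mul, map_inv]; group

/-- The centralizer of an element of order three and an involution commuting with it. -/
theorem cent_pair {i x : G} (hi : i * i = 1) (hi1 : i ≠ 1) (hx : x * (x * x) = 1) (hx1 : x ≠ 1)
    (hc : x * i = i * x) {y : G} (hy : y * (y * y) = 1) (hyi : y * i = i * y) (hyx : y * x = x * y) :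
    y = 1 ∨ y = x ∨ y = x * x := by
  obtain ⟨g, hg⟩ := isConj_iff.1 (D.isConj_invol hi hi1)
  have hsurj : ∀ y : G, y * i = i * y → ∃ k, g * D.S.φ k * g⁻¹ = y := by
    intro y hy
    obtain ⟨k, hk⟩ := D.S.mem_range.1 (show g⁻¹ * y * g ∈ centralizer ({D.S.φ zk} : Set G) from
      mem_centralizer_singleton_iff.2 (by
        calc g⁻¹ * y * g * D.S.φ zk = g⁻¹ * (y * (g * D.S.φ zk * g⁻¹)) * g := by group
          _ = g⁻¹ * ((g * D.S.φ zk * g⁻¹) * y) * g := by rw [hg, hy]
          _ = _ := by group))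
    exact ⟨k, by rw [hk]; group⟩
  obtain ⟨k, rfl⟩ := hsurj x hc
  obtain ⟨l, rfl⟩ := hsurj y hyi
  have hm : ∀ a b : K48, g * D.S.φ a * g⁻¹ * (g * D.S.φ b * g⁻¹) = g * D.S.φ (a * b) * g⁻¹ := fun a b => by
    rw [map_mul]; group
  have hinj : ∀ a b : K48, g * D.S.φ a * g⁻¹ = g * D.S.φ b * g⁻¹ → a = b := fun a b h =>
    D.S.inj (mul_left_cancel (mul_right_cancel h))
  have hone : g * D.S.φ 1 * g⁻¹ = 1 := by simp
  rcases cent3 l k (hinj _ _ (by rw [← hm, ← hm, hx, hone])) (fun e => hx1 (by rw [e, hone]))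
    (hinj _ _ (by rw [← hm, ← hm, hy, hone])) (hinj _ _ (by rw [← hm, ← hm, hyx])) with e | e | e
  · exact Or.inl (by rw [e, hone])
  · exact Or.inr (Or.inl (by rw [e]))
  · exact Or.inr (Or.inr (by rw [e, ← hm]))

theorem not_thirteen {x : G} (hx : x * (x * x) = 1) (hx1 : x ≠ 1) :
    ¬ 13 ∣ Nat.card (centralizer ({x} : Set G)) := by
  have : Fact (Nat.Prime 13) := ⟨by norm_num⟩
  have := D.simple
  intro h
  obtain ⟨q, hq⟩ := exists_prime_orderOf_dvd_card' (G := centralizer ({x} : Set G)) 13 h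
  have hq' : orderOf (q : G) = 13 := by rwa [Subgroup.orderOf_coe]
  obtain ⟨P, hP⟩ := (IsPGroup.of_card (p := 13) (n := 1) (G := zpowers (q : G))
    (by rw [Nat.card_zpowers, hq', pow_one])).exists_le_sylow
  have hP13 : Nat.card P = 13 := by
    rw [Sylow.card_eq_multiplicity, D.card, show (5616 : ℕ) = 13 * 432 by norm_num,
      Nat.factorization_mul (by norm_num) (by norm_num)]
    simp [Nat.Prime.factorization (show Nat.Prime 13 by norm_num),
      Nat.factorization_eq_zero_of_not_dvd (show ¬ 13 ∣ 432 by norm_num)]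
  have hPq : (P : Subgroup G) = zpowers (q : G) :=
    (Subgroup.eq_of_le_of_card_ge hP (by rw [hP13, Nat.card_zpowers, hq'])).symm
  have h3 : orderOf x = 3 := orderOf_eq_prime (by rw [pow_succ', pow_two, hx]) hx1
  have hC : Nat.card P ∣ Nat.card (centralizer ((P : Subgroup G) : Set G)) ∧
      3 ∣ Nat.card (centralizer ((P : Subgroup G) : Set G)) := by
    refine ⟨Subgroup.card_dvd_of_le fun a ha => mem_centralizer_iff.2 fun b hb => ?_, ?_⟩
    · rw [hPq] at ha hb
      obtain ⟨m, rfl⟩ := ha; obtain ⟨n, rfl⟩ := hb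
      exact (Commute.zpow_zpow_self (q : G) n m).eq
    · have hm : x ∈ centralizer ((P : Subgroup G) : Set G) := mem_centralizer_iff.2 fun b hb => by
        rw [hPq] at hb
        obtain ⟨n, rfl⟩ := hb
        exact (Commute.zpow_left (mem_centralizer_singleton_iff.1 q.2) n).eq
      have := Subgroup.orderOf_mk x hm ▸ orderOf_dvd_natCard (⟨x, hm⟩ : centralizer ((P : Subgroup G) : Set G))
      rwa [h3] at this
  have h39 : 39 ∣ Nat.card (normalizer ((P : Subgroup G) : Set G)) := by
    refine (Nat.Coprime.mul_dvd_of_dvd_of_dvd (m := 13) (n := 3) (by norm_num) (hP13.symm.dvd.trans hC.1) hC.2).trans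
      (Subgroup.card_dvd_of_le (centralizer_le_normalizer _))
  have hidx := card_mul_index (normalizer ((P : Subgroup G) : Set G))
  rw [D.card, show (normalizer ((P : Subgroup G) : Set G)).index = Nat.card (Sylow 13 G) from P.card_eq_index_normalizer.symm] at hidx
  obtain ⟨c, hc⟩ := h39
  have hmod := card_sylow_modEq_one 13 G
  have hn : Nat.card (Sylow 13 G) ∣ 144 := ⟨c, by rw [hc] at hidx; linarith⟩
  have hn1 : Nat.card (Sylow 13 G) = 144 ∨ Nat.card (Sylow 13 G) = 1 := by
    have hle := Nat.le_of_dvd (by norm_num) hn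
    unfold Nat.ModEq at hmod
    generalize Nat.card (Sylow 13 G) = m at hn hle hmod
    interval_cases m <;> omega
  rcases hn1 with e | e
  · have hc1 : c = 1 := by rw [e, hc] at hidx; linarith
    rw [hc1, mul_one] at hc
    have hle : normalizer ((P : Subgroup G) : Set G) ≤ centralizer ((P : Subgroup G) : Set G) :=
      (Subgroup.eq_of_le_of_card_ge (centralizer_le_normalizer _)
        (by rw [hc]; exact Nat.le_of_dvd Nat.card_pos (Nat.Coprime.mul_dvd_of_dvd_of_dvd (m := 13) (n := 3)
          (by norm_num) (hP13.symm.dvd.trans hC.1) hC.2))).ge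
    have hcomp := MonoidHom.ker_transferSylow_isComplement' P hle
    rcases (inferInstance : (MonoidHom.transferSylow P hle).ker.Normal).eq_bot_or_eq_top with k | k
    · have := hcomp.card_mul
      rw [k, Subgroup.card_bot, one_mul, hP13, D.card] at this
      omega
    · have := hcomp.card_mul
      rw [k, Subgroup.card_top, hP13, D.card] at this
      omega
  · have := (Nat.card_eq_one_iff_unique.1 e).1
    rcases (Sylow.normal_of_subsingleton P).eq_bot_or_eq_top with k | k
    · have := hP13; rw [k, Subgroup.card_bot] at this; omega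
    · have := hP13; rw [k, Subgroup.card_top, D.card] at this; omega

theorem card_cent_cases {i x : G} (hi : i * i = 1) (hi1 : i ≠ 1) (hx : x * (x * x) = 1) (hx1 : x ≠ 1)
    (hc : x * i = i * x) : ∃ c : ℕ, c ≤ 3 ∧ Nat.card (centralizer ({x} : Set G)) = 2 * 3 ^ c := by
  classical
  have : Fact (Nat.Prime 2) := ⟨Nat.prime_two⟩
  have hi2 : orderOf i = 2 := orderOf_eq_prime (by rw [pow_two, hi]) hi1
  let C := centralizer ({x} : Set G)
  have hiC : i ∈ C := mem_centralizer_singleton_iff.2 hc.symm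
  -- the involution is a Sylow subgroup
  obtain ⟨P, hP⟩ := (IsPGroup.of_card (p := 2) (n := 1) (G := zpowers (⟨i, hiC⟩ : C))
    (by rw [Nat.card_zpowers, ← Subgroup.orderOf_coe, hi2, pow_one])).exists_le_sylow
  obtain ⟨g, hg⟩ := isConj_iff.1 (D.isConj_invol hi hi1)
  have hP2 : (P : Subgroup C) = zpowers (⟨i, hiC⟩ : C) := by
    have : Nat.card P ≤ 2 := by
      have hsub : ∀ y ∈ Subgroup.normalizer ((zpowers (⟨i, hiC⟩ : C)).subgroupOf P : Set P),
          y ∈ (zpowers (⟨i, hiC⟩ : C)).subgroupOf P := by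
        intro y hy
        have hyi : (y : C) * ⟨i, hiC⟩ * (y : C)⁻¹ = ⟨i, hiC⟩ := by
          have hm := (Subgroup.mem_normalizer_iff.1 hy ⟨⟨i, hiC⟩, hP (mem_zpowers _)⟩).1
            (mem_subgroupOf.2 (mem_zpowers _))
          rw [mem_subgroupOf] at hm
          obtain ⟨n, hn⟩ := hm
          simp only at hn
          rcases Int.even_or_odd' n with ⟨q, rfl | rfl⟩
          · exfalso
            rw [zpow_mul, zpow_two, show (⟨i, hiC⟩ : C) * ⟨i, hiC⟩ = 1 from Subtype.ext hi, one_zpow] at hn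
            have := conj_eq_one_iff.1 hn.symm
            exact hi1 (congrArg Subtype.val this)
          · rw [zpow_add, zpow_mul, zpow_two, show (⟨i, hiC⟩ : C) * ⟨i, hiC⟩ = 1 from Subtype.ext hi, one_zpow,
              zpow_one, one_mul] at hn
            exact hn.symm
        obtain ⟨k, hk⟩ := D.S.mem_range.1 (show g⁻¹ * ((y : C) : G) * g ∈ centralizer ({D.S.φ zk} : Set G) from
          mem_centralizer_singleton_iff.2 (by
            have e := congrArg Subtype.val hyi
            simp only [Subgroup.coe_mul, InvMemClass.coe_inv] at e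
            calc g⁻¹ * ((y : C) : G) * g * D.S.φ zk = g⁻¹ * (((y : C) : G) * (g * D.S.φ zk * g⁻¹)) * g := by group
              _ = g⁻¹ * ((g * D.S.φ zk * g⁻¹) * ((y : C) : G)) * g := by rw [hg, mul_inv_eq_iff_eq_mul.1 e]
              _ = _ := by group))
        obtain ⟨m, hm⟩ := D.S.mem_range.1 (show g⁻¹ * x * g ∈ centralizer ({D.S.φ zk} : Set G) from
          mem_centralizer_singleton_iff.2 (by
            calc g⁻¹ * x * g * D.S.φ zk = g⁻¹ * (x * (g * D.S.φ zk * g⁻¹)) * g := by group
              _ = g⁻¹ * ((g * D.S.φ zk * g⁻¹) * x) * g := by rw [hg, hc]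
              _ = _ := by group))
        have hcomm : k * m = m * k := D.S.inj (by
          rw [map_mul, map_mul, hk, hm]
          calc g⁻¹ * ((y : C) : G) * g * (g⁻¹ * x * g) = g⁻¹ * (((y : C) : G) * x) * g := by group
            _ = g⁻¹ * (x * ((y : C) : G)) * g := by rw [mem_centralizer_singleton_iff.1 (y : C).2]
            _ = _ := by group)
        obtain ⟨n, hn⟩ : ∃ n, k ^ (2 ^ n) = 1 := by
          obtain ⟨n, hn⟩ := P.2 y
          refine ⟨n, D.S.inj ?_⟩
          rw [map_pow, hk, map_one]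
          have e : ((y : C) : G) ^ (2 ^ n) = 1 := congrArg (fun w : P => ((w : C) : G)) hn
          have hcj := conj_pow (a := g⁻¹) (b := ((y : C) : G)) (i := 2 ^ n)
          rw [inv_inv] at hcj
          rw [hcj, e, mul_one, inv_mul_cancel]
        rcases (by decide +kernel : ∀ k m : K48, Cube m → m ≠ 1 → k * m = m * k → k = 1 ∨ k = zk ∨
            k * k * (k * k) * (k * k * (k * k)) ≠ 1) k m (D.S.inj (by
              rw [map_mul, map_mul, hm, map_one]
              calc g⁻¹ * x * g * (g⁻¹ * x * g * (g⁻¹ * x * g)) = g⁻¹ * (x * (x * x)) * g := by group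
                _ = 1 := by rw [hx]; group)) (fun e => hx1 (by
              rw [e, map_one] at hm
              calc x = g * (g⁻¹ * x * g) * g⁻¹ := by group
                _ = 1 := by rw [← hm]; group)) hcomm with e | e | e
        · rw [e, map_one] at hk
          have : ((y : C) : G) = 1 := by
            calc ((y : C) : G) = g * (g⁻¹ * ((y : C) : G) * g) * g⁻¹ := by group
              _ = 1 := by rw [← hk]; group
          rw [mem_subgroupOf, show (y : C) = 1 from Subtype.ext this]
          exact one_mem _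
        · rw [e] at hk
          have : ((y : C) : G) = i := by
            calc ((y : C) : G) = g * (g⁻¹ * ((y : C) : G) * g) * g⁻¹ := by group
              _ = i := by rw [← hk]; exact hg
          rw [mem_subgroupOf, show (y : C) = ⟨i, hiC⟩ from Subtype.ext this]
          exact mem_zpowers _
        · exfalso
          apply e
          have h16 : k ^ 48 = 1 := by rw [← card48]; exact pow_card_eq_one
          have hord : orderOf k ∣ 16 := by
            obtain ⟨j, -, hj⟩ := (Nat.dvd_prime_pow Nat.prime_two).1 (orderOf_dvd_of_pow_eq_one hn)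
            have h48 := orderOf_dvd_of_pow_eq_one h16
            rw [hj] at h48 ⊢
            exact Nat.Coprime.dvd_of_dvd_mul_right (Nat.Coprime.pow_left j (by norm_num : Nat.Coprime 2 3))
              (by simpa using h48)
          have h8 := (by decide +kernel : ∀ k : K48, k ^ 16 = 1 → k * k * (k * k) * (k * k * (k * k)) = 1) k
            (orderOf_dvd_iff_pow_eq_one.1 hord)
          exact h8
      by_contra hgt
      have := P.2.isNilpotent
      have := Group.normalizerCondition_of_isNilpotent (G := P)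
      have hlt := this ((zpowers (⟨i, hiC⟩ : C)).subgroupOf P) (lt_top_iff_ne_top.2 fun e => by
        have := congrArg (fun H : Subgroup P => Nat.card H) e
        simp only [Subgroup.card_top] at this
        rw [Nat.card_congr (subgroupOfEquivOfLe hP).toEquiv, Nat.card_zpowers, ← Subgroup.orderOf_coe, hi2] at this
        omega)
      exact hlt.not_ge hsub
    exact (Subgroup.eq_of_le_of_card_ge hP (by rw [Nat.card_zpowers, ← Subgroup.orderOf_coe, hi2]; exact this)).symm
  have hc2 : (Nat.card C).factorization 2 = 1 := by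
    have := P.card_eq_multiplicity
    rw [hP2, Nat.card_zpowers, ← Subgroup.orderOf_coe, hi2] at this
    exact (Nat.pow_right_injective (le_refl 2) (this.symm.trans (pow_one 2).symm))
  have hd : Nat.card C ∣ 5616 := D.card ▸ Subgroup.card_subgroup_dvd_card C
  have h13 : ¬ 13 ∣ Nat.card C := D.not_thirteen hx hx1
  have hd' : Nat.card C ∣ 432 :=
    ((Nat.Prime.coprime_iff_not_dvd (by norm_num : Nat.Prime 13)).2 h13).symm.dvd_of_dvd_mul_left
      (show Nat.card C ∣ 13 * 432 from hd)
  have h2 : 2 ∣ Nat.card C := by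
    have := orderOf_dvd_natCard (⟨i, hiC⟩ : C)
    rwa [← Subgroup.orderOf_coe, hi2] at this
  have h4 : ¬ 4 ∣ Nat.card C := fun h => by
    have := (Nat.Prime.pow_dvd_iff_le_factorization Nat.prime_two Nat.card_pos.ne').1 (show 2 ^ 2 ∣ _ from h)
    omega
  have hle := Nat.le_of_dvd (by norm_num) hd'
  show ∃ c, c ≤ 3 ∧ Nat.card C = 2 * 3 ^ c
  generalize Nat.card C = m at hd' h2 h4 hle
  have hmem : m ∈ Nat.divisors 432 := Nat.mem_divisors.2 ⟨hd', by norm_num⟩
  rw [show Nat.divisors 432 = {1,2,3,4,6,8,9,12,16,18,24,27,36,48,54,72,108,144,216,432} by decide +kernel] at hmem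
  simp only [Finset.mem_insert, Finset.mem_singleton] at hmem
  rcases hmem with rfl|rfl|rfl|rfl|rfl|rfl|rfl|rfl|rfl|rfl|rfl|rfl|rfl|rfl|rfl|rfl|rfl|rfl|rfl|rfl
  all_goals first | omega | (refine ⟨0, ?_⟩; omega) | (refine ⟨1, ?_⟩; omega) | (refine ⟨2, ?_⟩; omega) |
    (refine ⟨3, ?_⟩; omega)

end Data

end Cfsg.Lib.LThreeThree
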