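import Cfsg.Agent.Recognition.LinearThreeThree.Hexagon

/-!
Every root has one neighbour in each of the two other pairs, and these do not commute.
-/

set_option autoImplicit false
set_option maxRecDepth 8000

namespace Cfsg.Lib.LThreeThree

open Subgroup Cfsg.Lib.GLTwoThree Cfsg.Lib.Order9

universe u

variable {G : Type u} [Group G]

namespace Data

variable [Finite G] (D : Data G)
include D

theorem core27 {i j x : G} (F : IsFrame i j) (R : IsRoot i j x) : ∃ Q : Subgroup G,
    Nat.card Q = 27 ∧ x ∈ Q ∧ IsPGroup 3 Q ∧ (∀ e ∈ Q, e * x = x * e) ∧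
      (∀ e, e * x = x * e → (∃ n, e ^ (3 ^ n) = 1) → e ∈ Q) ∧
      (∀ k : G, (k * x * k⁻¹ = x ∨ k * x * k⁻¹ = x⁻¹) → ∀ e ∈ Q, k * e * k⁻¹ ∈ Q) := by
  obtain ⟨Q, c, hQ, -, hcard, hxQ, hQC, hall, hnorm⟩ := D.exists_core F.hi F.hi1 R.cube R.ne R.ci
  rw [D.card_cent F R] at hcard
  have h27 : 3 ^ c = 27 := by omega
  exact ⟨Q, hQ.trans h27, hxQ, IsPGroup.of_card hQ, fun e he => mem_centralizer_singleton_iff.1 (hQC he),
    fun e he h3 => hall e (mem_centralizer_singleton_iff.2 he) h3, hnorm⟩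

omit D in
theorem pow3_of_cube {y : G} (hy : y * (y * y) = 1) : ∃ n, y ^ (3 ^ n) = 1 :=
  ⟨1, by rw [pow_one, pow_succ', pow_two, hy]⟩

omit D in
theorem norm_root {i j x : G} (F : IsFrame i j) (R : IsRoot i j x) :
    (i * x * i⁻¹ = x ∨ i * x * i⁻¹ = x⁻¹) ∧ (j * x * j⁻¹ = x ∨ j * x * j⁻¹ = x⁻¹) :=
  ⟨Or.inl (by rw [← R.ci, mul_inv_cancel_right]), Or.inr (by rw [inv_eq_of_mul_eq_one_right F.hj, R.inv])⟩

/-- There is a neighbour in the pair of the second involution. -/
theorem nbr_exists {i j x : G} (F : IsFrame i j) (R : IsRoot i j x) : ∃ b, IsRoot j i b ∧ x * b = b * x := by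
  classical
  obtain ⟨Q, hQ, hxQ, h3Q, hQx, -, hnorm⟩ := D.core27 F R
  have hQi := hnorm i (norm_root F R).1
  have hQj := hnorm j (norm_root F R).2
  have hi' : i⁻¹ = i := inv_eq_of_mul_eq_one_right F.hi
  have hj' : j⁻¹ = j := inv_eq_of_mul_eq_one_right F.hj
  have hp : ∀ e ∈ Q, ∃ n, e ^ (3 ^ n) = 1 := fun e he => by
    obtain ⟨n, hn⟩ := h3Q ⟨e, he⟩; exact ⟨n, congrArg Subtype.val hn⟩
  obtain ⟨b, hbQ, hb1, hbj⟩ : ∃ b ∈ Q, b ≠ 1 ∧ b * j = j * b := by
    by_contra hcon
    push Not at hcon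
    have hinv := inverts_of_fpf F.hj Q hQj fun e he h => by_contra fun h1 => hcon e he h1 h
    have hab : ∀ a ∈ Q, ∀ b ∈ Q, a * b = b * a := by
      intro a ha b hb
      have h := hinv (a * b) (mul_mem ha hb)
      rw [show j * (a * b) * j⁻¹ = (j * a * j⁻¹) * (j * b * j⁻¹) by group, hinv a ha, hinv b hb,
        mul_inv_rev] at h
      have h2 := congrArg Inv.inv h
      simp only [mul_inv_rev, inv_inv] at h2
      exact h2.symm
    -- the image of `e ↦ e (i e i)⁻¹` commutes with the third involution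
    let f : Q → Q := fun e => e * ⟨i * e * i⁻¹, hQi e e.2⟩⁻¹
    let M : Subgroup Q :=
      { carrier := {w | i * (w : G) * i = ((w : G))⁻¹}
        one_mem' := by simp [F.hi]
        mul_mem' := fun {a b} ha hb => by
          show i * ((a : G) * b) * i = ((a : G) * b)⁻¹
          calc i * ((a : G) * b) * i = i * a * (i * i) * b * i := by rw [F.hi]; group
            _ = (i * a * i) * (i * b * i) := by group
            _ = _ := by rw [ha, hb, hab a a.2 b b.2, mul_inv_rev]
        inv_mem' := fun {a} ha => by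
          show i * ((a : G))⁻¹ * i = ((a : G))⁻¹⁻¹
          rw [show i * ((a : G))⁻¹ * i = (i * a * i)⁻¹ by rw [mul_inv_rev, mul_inv_rev, hi']; group, ha] }
    have hf : ∀ e : Q, f e ∈ M := fun e => by
      show i * ((e : G) * (i * e * i⁻¹)⁻¹) * i = ((e : G) * (i * e * i⁻¹)⁻¹)⁻¹
      rw [hi']
      calc i * ((e : G) * (i * e * i)⁻¹) * i = i * e * i⁻¹ * (e : G)⁻¹ * (i⁻¹ * i) := by group
        _ = i * e * i * (e : G)⁻¹ := by rw [hi', F.hi, mul_one]
        _ = _ := by group
    -- the fibres have at most three elements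
    have hfib : ∀ e e' : Q, f e = f e' → (e : G)⁻¹ * e' = 1 ∨ (e : G)⁻¹ * e' = x ∨ (e : G)⁻¹ * e' = x * x := by
      intro e e' h
      have h' : (e : G) * (i * e * i⁻¹)⁻¹ = e' * (i * e' * i⁻¹)⁻¹ := congrArg Subtype.val h
      obtain ⟨d, hd⟩ : ∃ d, d = (e : G)⁻¹ * e' := ⟨_, rfl⟩
      have hdQ : d ∈ Q := hd ▸ mul_mem (inv_mem e.2) e'.2
      have hdi : d * i = i * d := by
        have h2 : i * d * i⁻¹ = d := by
          rw [hd]
          calc i * ((e : G)⁻¹ * e') * i⁻¹ = (i * e * i⁻¹)⁻¹ * (i * e' * i⁻¹) := by group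
            _ = (e : G)⁻¹ * ((e : G) * (i * e * i⁻¹)⁻¹) * (i * e' * i⁻¹) := by group
            _ = _ := by rw [h']; group
        exact (mul_inv_eq_iff_eq_mul.1 h2).symm
      rw [← hd]
      exact D.cent_pair F.hi F.hi1 R.cube R.ne R.ci (D.cube_of_three F.hi F.hi1 (hp d hdQ) hdi) hdi (hQx d hdQ)
    have hcardM : Nat.card M ≤ 3 := by
      have h1 : Nat.card M = Nat.card (M.map Q.subtype) :=
        (Subgroup.card_map_of_injective Q.subtype_injective).symm
      rw [h1]
      refine D.le_three (i := i * j) F.right.hj F.right.hj1 _ ((h3Q.to_subgroup M).map _) ?_ ?_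
      · rintro _ ⟨a, -, rfl⟩ _ ⟨b, -, rfl⟩; exact hab a a.2 b b.2
      · rintro _ ⟨a, ha, rfl⟩
        show (a : G) * (i * j) = i * j * a
        have e1 : i * (a : G) * i = ((a : G))⁻¹ := ha
        have e2 : j * (a : G) * j⁻¹ = ((a : G))⁻¹ := hinv a a.2
        rw [hj'] at e2
        calc (a : G) * (i * j) = i * (i * a * i) * j := by rw [← mul_assoc i, ← mul_assoc i, F.hi]; group
          _ = i * (j * a * j) * j := by rw [e1, e2]
          _ = i * j * a * (j * j) := by group
          _ = _ := by rw [F.hj, mul_one]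
    have : Nat.card Q ≤ 3 * 3 := by
      have := Fintype.ofFinite Q
      have := Fintype.ofFinite M
      have h2 := Finset.card_le_mul_card_image (f := fun e : Q => (⟨f e, hf e⟩ : M)) (s := (Finset.univ : Finset Q))
        (n := 3) fun b _ => by
          by_cases hne : (Finset.univ.filter fun e : Q => (⟨f e, hf e⟩ : M) = b).Nonempty
          · obtain ⟨e₀, he₀⟩ := hne
            refine le_trans (Finset.card_le_card (t := ({e₀, e₀ * ⟨x, hxQ⟩, e₀ * (⟨x, hxQ⟩ * ⟨x, hxQ⟩)} : Finset Q))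
              fun e he => ?_) Finset.card_le_three
            simp only [Finset.mem_filter, Finset.mem_univ, true_and] at he he₀
            simp only [Finset.mem_insert, Finset.mem_singleton]
            rcases hfib e₀ e (congrArg Subtype.val (he₀.trans he.symm)) with r | r | r
            · left; exact Subtype.ext (inv_mul_eq_one.1 r).symm
            · right; left; exact Subtype.ext (inv_mul_eq_iff_eq_mul.1 r)
            · right; right; exact Subtype.ext (inv_mul_eq_iff_eq_mul.1 r)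
          · rw [Finset.not_nonempty_iff_eq_empty] at hne
            rw [hne]; simp
      rw [Finset.card_univ, ← Nat.card_eq_fintype_card] at h2
      refine h2.trans (Nat.mul_le_mul_left 3 (le_trans (Finset.card_le_univ _) ?_))
      rw [← Nat.card_eq_fintype_card]; exact hcardM
    omega
  have hb3 : b * (b * b) = 1 := D.cube_of_three F.hj F.hj1 (hp b hbQ) hbj
  refine ⟨b, ⟨hbj, ?_, hb3, hb1⟩, (hQx b hbQ).symm⟩
  -- the first involution inverts it
  have hib : i * b * i ∈ Q := by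
    have := hQi b hbQ
    rwa [hi'] at this
  have hibj : i * b * i * j = j * (i * b * i) := by
    calc i * b * i * j = i * b * (i * j) := by group
      _ = i * (b * j) * i := by rw [F.comm]; group
      _ = (i * j) * b * i := by rw [hbj]; group
      _ = _ := by rw [F.comm]; group
  have hle : Nat.card (Q ⊓ centralizer ({j} : Set G) : Subgroup G) ≤ 3 := by
    have hd1 := Subgroup.card_dvd_of_le (inf_le_left : Q ⊓ centralizer ({j} : Set G) ≤ Q)
    obtain ⟨g, hg⟩ := isConj_iff.1 (D.isConj_invol F.hj F.hj1)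
    have hd2 := Subgroup.card_dvd_of_le (inf_le_right : Q ⊓ centralizer ({j} : Set G) ≤ centralizer ({j} : Set G))
    rw [← card_cent_conj (isConj_iff.2 ⟨g, hg⟩), D.S.card_cent] at hd2
    rw [hQ] at hd1
    have := Nat.dvd_gcd hd1 hd2
    norm_num at this
    exact Nat.le_of_dvd (by norm_num) this
  have hz : zpowers b = Q ⊓ centralizer ({j} : Set G) := Subgroup.eq_of_le_of_card_ge
    (zpowers_le.2 ⟨hbQ, mem_centralizer_singleton_iff.2 hbj⟩)
    (by rw [Nat.card_zpowers, orderOf_eq_prime (p := 3) (by rw [pow_succ', pow_two, hb3]) hb1]; exact hle)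
  obtain ⟨n, hn⟩ : i * b * i ∈ zpowers b := by rw [hz]; exact ⟨hib, mem_centralizer_singleton_iff.2 hibj⟩
  simp only at hn
  have h3 : b ^ (3 : ℕ) = 1 := by rw [pow_succ', pow_two, hb3]
  obtain ⟨m, rfl | rfl | rfl⟩ : ∃ m, n = 3 * m ∨ n = 3 * m + 1 ∨ n = 3 * m + 2 := ⟨n / 3, by omega⟩
  · exfalso
    rw [zpow_mul, show b ^ (3 : ℤ) = 1 from by exact_mod_cast h3, one_zpow] at hn
    exact hb1 (by
      calc b = (i * i) * b * (i * i) := by rw [F.hi, one_mul, mul_one]
        _ = i * (i * b * i) * i := by group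
        _ = 1 := by rw [← hn, mul_one, F.hi])
  · exfalso
    rw [zpow_add, zpow_mul, show b ^ (3 : ℤ) = 1 from by exact_mod_cast h3, one_zpow, one_mul, zpow_one] at hn
    have hbi : b * i = i * b := by
      calc b * i = i * b * (i * i) := by rw [← mul_assoc (i * b), ← hn]
        _ = _ := by rw [F.hi, mul_one]
    rcases D.cent_pair F.hi F.hi1 R.cube R.ne R.ci hb3 hbi (hQx b hbQ) with r | r | r
    · exact hb1 r
    · rw [r] at hbj
      have := R.inv
      rw [← hbj, mul_assoc, F.hj, mul_one] at this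
      exact R.ne (eq_one_of_sq_of_cube (by nth_rw 2 [this]; rw [mul_inv_cancel]) R.cube)
    · rw [r, cube_sq R.cube] at hbj
      have := (Commute.inv_left hbj).eq
      rw [inv_inv] at this
      have h2 := R.inv
      rw [← this, mul_assoc, F.hj, mul_one] at h2
      exact R.ne (eq_one_of_sq_of_cube (by nth_rw 2 [h2]; rw [mul_inv_cancel]) R.cube)
  · rw [zpow_add, zpow_mul, show b ^ (3 : ℤ) = 1 from by exact_mod_cast h3, one_zpow, one_mul, zpow_two,
      cube_sq hb3] at hn
    exact hn.symm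

theorem nbr_unique {i j x y y' : G} (F : IsFrame i j) (R : IsRoot i j x) (hy : IsRoot j i y) (hy' : IsRoot j i y')
    (c : x * y = y * x) (c' : x * y' = y' * x) : y' = y ∨ y' = y⁻¹ := by
  obtain ⟨Q, hQ, -, -, -, hall, -⟩ := D.core27 F R
  obtain ⟨g, hg⟩ := isConj_iff.1 (D.isConj_invol F.hj F.hj1)
  have hle : Nat.card (Q ⊓ centralizer ({j} : Set G) : Subgroup G) ≤ 3 := by
    have hd1 := Subgroup.card_dvd_of_le (inf_le_left : Q ⊓ centralizer ({j} : Set G) ≤ Q)
    have hd2 := Subgroup.card_dvd_of_le (inf_le_right : Q ⊓ centralizer ({j} : Set G) ≤ centralizer ({j} : Set G))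
    rw [← card_cent_conj (isConj_iff.2 ⟨g, hg⟩), D.S.card_cent] at hd2
    rw [hQ] at hd1
    have := Nat.dvd_gcd hd1 hd2
    norm_num at this
    exact Nat.le_of_dvd (by norm_num) this
  have hz : zpowers y = Q ⊓ centralizer ({j} : Set G) := Subgroup.eq_of_le_of_card_ge
    (zpowers_le.2 ⟨hall y c.symm (pow3_of_cube hy.cube), mem_centralizer_singleton_iff.2 hy.ci⟩)
    (by rw [Nat.card_zpowers, orderOf_eq_prime (p := 3) (by rw [pow_succ', pow_two, hy.cube]) hy.ne]; exact hle)
  obtain ⟨n, hn⟩ : y' ∈ zpowers y := by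
    rw [hz]; exact ⟨hall y' c'.symm (pow3_of_cube hy'.cube), mem_centralizer_singleton_iff.2 hy'.ci⟩
  simp only at hn
  have h3 : y ^ (3 : ℤ) = 1 := by
    exact_mod_cast (show y ^ (3 : ℕ) = 1 by rw [pow_succ', pow_two, hy.cube])
  obtain ⟨m, rfl | rfl | rfl⟩ : ∃ m, n = 3 * m ∨ n = 3 * m + 1 ∨ n = 3 * m + 2 := ⟨n / 3, by omega⟩
  · rw [zpow_mul, h3, one_zpow] at hn; exact absurd hn.symm hy'.ne
  · rw [zpow_add, zpow_mul, h3, one_zpow, one_mul, zpow_one] at hn; exact Or.inl hn.symm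
  · rw [zpow_add, zpow_mul, h3, one_zpow, one_mul, zpow_two, cube_sq hy.cube] at hn; exact Or.inr hn.symm

/-- An element mapping one root to another. -/
theorem exists_map {i j x i' j' x' : G} (F : IsFrame i j) (R : IsRoot i j x) (F' : IsFrame i' j')
    (R' : IsRoot i' j' x') : ∃ h : G, h * i * h⁻¹ = i' ∧ h * x * h⁻¹ = x' ∧
      (h * j * h⁻¹ = j' ∨ h * j * h⁻¹ = i' * j') := by
  obtain ⟨ψ, -, -, hz, hJ, hX, g, hg⟩ := D.exists_std F R
  obtain ⟨ψ', -, -, hz', hJ', hX', g', hg'⟩ := D.exists_std F' R'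
  obtain ⟨h, hh⟩ : ∃ h, h = g' * g⁻¹ := ⟨_, rfl⟩
  have key : ∀ k, h * ψ k * h⁻¹ = ψ' k := fun k => by rw [hh, hg, hg']; group
  refine ⟨h, by rw [← hz, key, hz'], by rw [← hX, key, hX'], ?_⟩
  rcases hJ with e | e
  · rw [← e, key]; exact hJ'
  · have e1 : j = ψ zk * ψ J0 := by rw [hz, e, ← mul_assoc, F.hi, one_mul]
    rw [e1, ← map_mul, key, map_mul, hz']
    rcases hJ' with r | r <;> rw [r]
    · exact Or.inr rfl
    · exact Or.inl (by rw [← mul_assoc, F'.hi, one_mul])

/-- The two neighbours do not commute, and their commutator is a power of the root. -/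
theorem noncomm {i j x y z : G} (F : IsFrame i j) (R : IsRoot i j x) (hy : IsRoot j i y)
    (hz : IsRoot (i * j) i z) (cy : x * y = y * x) (cz : x * z = z * x) :
    z * y ≠ y * z ∧ ((y * z * y⁻¹ * z⁻¹ = x ∨ y * z * y⁻¹ * z⁻¹ = x⁻¹) ∧
      (z * y * z⁻¹ * y⁻¹ = x ∨ z * y * z⁻¹ * y⁻¹ = x⁻¹)) := by
  classical
  have : Fact (Nat.Prime 3) := ⟨Nat.prime_three⟩
  obtain ⟨Q, hQ, hxQ, h3Q, hQx, hall, hnorm⟩ := D.core27 F R
  have hyQ := hall y cy.symm (pow3_of_cube hy.cube)
  have hzQ := hall z cz.symm (pow3_of_cube hz.cube)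
  have hi' : i⁻¹ = i := inv_eq_of_mul_eq_one_right F.hi
  have hk := F.right
  -- the three roots generate
  have hgen : closure ({x, y, z} : Set G) = Q := by
    have hle : closure ({x, y, z} : Set G) ≤ Q := (Subgroup.closure_le _).2 (by
      rintro a (rfl | rfl | rfl) <;> assumption)
    refine Subgroup.eq_of_le_of_card_ge hle ?_
    have hd := Subgroup.card_dvd_of_le hle
    rw [hQ] at hd ⊢
    by_contra hlt
    have hsm : Nat.card (closure ({x, y, z} : Set G)) ≤ 9 := by
      have h1 := Nat.le_of_dvd (by norm_num) hd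
      have hm : Nat.card (closure ({x, y, z} : Set G)) ∈ Nat.divisors 27 := Nat.mem_divisors.2 ⟨hd, by norm_num⟩
      rw [show Nat.divisors 27 = {1, 3, 9, 27} by decide +kernel] at hm
      simp only [Finset.mem_insert, Finset.mem_singleton] at hm
      omega
    have hx1 := closure ({x, y, z} : Set G)
    -- nine products of `x` and `y` and the element `z`
    have hz9 : ∃ a b : ℤ, z = x ^ a * y ^ b := by
      have hxy : Commute x y := cy
      let H : Subgroup G :=
        { carrier := {w | ∃ a b : ℤ, w = x ^ a * y ^ b}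
          one_mem' := ⟨0, 0, by simp⟩
          mul_mem' := by
            rintro _ _ ⟨a, b, rfl⟩ ⟨a', b', rfl⟩
            exact ⟨a + a', b + b', by
              rw [zpow_add, zpow_add, mul_assoc, ← mul_assoc (y ^ b), ← (hxy.zpow_zpow a' b).eq]; group⟩
          inv_mem' := by
            rintro _ ⟨a, b, rfl⟩
            exact ⟨-a, -b, by rw [mul_inv_rev, ← zpow_neg, ← zpow_neg]; exact ((hxy.zpow_zpow (-a) (-b)).eq).symm⟩ }
      have hHle : H ≤ closure ({x, y, z} : Set G) := by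
        rintro _ ⟨a, b, rfl⟩
        exact mul_mem (zpow_mem (subset_closure (by simp)) a) (zpow_mem (subset_closure (by simp)) b)
      have hH : closure ({x, y, z} : Set G) ≤ H := by
        refine (Subgroup.eq_of_le_of_card_ge hHle ?_).ge
        have hxH : zpowers x ≤ H := zpowers_le.2 ⟨1, 0, by simp⟩
        have hd2 := Subgroup.card_dvd_of_le hxH
        rw [Nat.card_zpowers, orderOf_eq_prime (p := 3) (by rw [pow_succ', pow_two, R.cube]) R.ne] at hd2
        have hd3 : Nat.card H ∣ 27 := (Subgroup.card_dvd_of_le hHle).trans hd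
        have hne : Nat.card H ≠ 3 := by
          intro h3
          have e : zpowers x = H := Subgroup.eq_of_le_of_card_ge hxH (by
            rw [h3, Nat.card_zpowers, orderOf_eq_prime (p := 3) (by rw [pow_succ', pow_two, R.cube]) R.ne])
          obtain ⟨n, hn⟩ : y ∈ zpowers x := e ▸ ⟨0, 1, by simp⟩
          simp only at hn
          have e1 : y * i = i * y := by rw [← hn]; exact (Commute.zpow_left R.ci n).eq
          have e2 := hy.inv
          rw [← e1, mul_assoc, F.hi, mul_one] at e2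
          exact hy.ne (eq_one_of_sq_of_cube (by nth_rw 2 [e2]; rw [mul_inv_cancel]) hy.cube)
        have hm : Nat.card H ∈ Nat.divisors 27 := Nat.mem_divisors.2 ⟨hd3, by norm_num⟩
        rw [show Nat.divisors 27 = {1, 3, 9, 27} by decide +kernel] at hm
        simp only [Finset.mem_insert, Finset.mem_singleton] at hm
        omega
      exact hH (subset_closure (by simp))
    obtain ⟨a, b, hab⟩ := hz9
    -- `z` would commute with `y`'s involution or with the first one
    have e1 : z * (i * j) = i * j * z := hz.ci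
    have e2 : i * z * i = x ^ a * y ^ (-b) := by
      calc i * z * i = i * x ^ a * (y ^ b * i) := by rw [hab]; group
        _ = (i * x ^ a * i⁻¹) * (i * y ^ b * i⁻¹) := by rw [hi']; conv_lhs => rw [show y ^ b * i = 1 * (y ^ b * i) by rw [one_mul], ← F.hi]
                                                        group
        _ = _ := by
          rw [← conj_zpow, ← conj_zpow, hi', hy.inv, ← R.ci, mul_assoc, F.hi, mul_one, inv_zpow, zpow_neg]
    have hxy : Commute x y := cy
    rw [hz.inv, hab, mul_inv_rev, ← zpow_neg, ← zpow_neg, (hxy.zpow_zpow (-a) (-b)).symm.eq] at e2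
    have e3 : x ^ (-a) = x ^ a := mul_right_cancel e2
    have hxa : x ^ a = 1 := by
      have h2 : (x ^ a) * (x ^ a) = 1 := by nth_rw 1 [← e3]; rw [← zpow_add, neg_add_cancel, zpow_zero]
      refine eq_one_of_sq_of_cube h2 ?_
      rw [← zpow_add, ← zpow_add, show a + (a + a) = 3 * a by ring, zpow_mul,
        show x ^ (3 : ℤ) = 1 from by exact_mod_cast (show x ^ (3 : ℕ) = 1 by rw [pow_succ', pow_two, R.cube]), one_zpow]
    rw [hxa, one_mul] at hab
    have e4 : z * j = j * z := by rw [hab]; exact (Commute.zpow_left hy.ci b).eq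
    have e5 : z * i = i * z := by
      calc z * i = z * ((i * j) * j) := by rw [mul_assoc, F.hj, mul_one]
        _ = (z * (i * j)) * j := by group
        _ = (i * j) * (z * j) := by rw [e1]; group
        _ = (i * j) * (j * z) := by rw [e4]
        _ = i * (j * j) * z := by group
        _ = _ := by rw [F.hj, mul_one]
    have e6 := hz.inv
    rw [← e5, mul_assoc, F.hi, mul_one] at e6
    exact hz.ne (eq_one_of_sq_of_cube (by nth_rw 2 [e6]; rw [mul_inv_cancel]) hz.cube)
  have hmain : z * y ≠ y * z := by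
    intro hzy
    have hab : ∀ a ∈ Q, ∀ b ∈ Q, a * b = b * a := by
      rw [← hgen]
      have := Subgroup.isMulCommutative_closure (k := ({x, y, z} : Set G)) (by
        intro a ha b hb
        rcases ha with rfl | rfl | rfl <;> rcases hb with rfl | rfl | rfl
        exacts [rfl, cy, cz, cy.symm, rfl, hzy.symm, cz.symm, hzy, rfl])
      exact fun a ha b hb => congrArg Subtype.val (this.is_comm.comm ⟨a, ha⟩ ⟨b, hb⟩)
    have hmove : ∀ {i' j' x' : G}, IsFrame i' j' → IsRoot i' j' x' → x' ∈ Q → ∀ h : G,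
        h * x * h⁻¹ = x' → ∀ e ∈ Q, h * e * h⁻¹ ∈ Q := by
      intro i' j' x' F' R' hx' h hh e he
      obtain ⟨Q', hQ', -, -, -, hall', -⟩ := D.core27 F' R'
      have heq : Q = Q' := Subgroup.eq_of_le_of_card_ge (fun a ha => hall' a (hab a ha x' hx') (by
        obtain ⟨n, hn⟩ := h3Q ⟨a, ha⟩; exact ⟨n, congrArg Subtype.val hn⟩)) (le_of_eq (hQ'.trans hQ.symm))
      rw [heq]
      refine hall' _ ?_ ?_
      · rw [← hh]
        calc h * e * h⁻¹ * (h * x * h⁻¹) = h * (e * x) * h⁻¹ := by group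
          _ = h * (x * e) * h⁻¹ := by rw [hQx e he]
          _ = _ := by group
      · obtain ⟨n, hn⟩ := h3Q ⟨e, he⟩
        exact ⟨n, by rw [conj_pow, show e ^ (3 ^ n) = 1 from congrArg Subtype.val hn, mul_one, mul_inv_cancel]⟩
    obtain ⟨h, hi_, hx_, hj_⟩ := D.exists_map F R F.symm hy
    obtain ⟨h', hi2, hx2, hj2⟩ := D.exists_map F R hk.symm hz
    have hN : ∀ {i' j' x' : G}, IsFrame i' j' → IsRoot i' j' x' → x' ∈ Q → ∀ h : G,
        h * x * h⁻¹ = x' → h ∈ normalizer (Q : Set G) := by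
      intro i' j' x' F' R' hx' h hh
      refine mem_normalizer_iff_map_conj_eq.2 (Subgroup.eq_of_le_of_card_ge ?_ ?_)
      · rintro _ ⟨e, he, rfl⟩; exact hmove F' R' hx' h hh e he
      · rw [Subgroup.card_map_of_injective (MulAut.conj h).injective]
    have hm := hN F.symm hy hyQ h hx_
    have hm' := hN hk.symm hz hzQ h' hx2
    have hji : j * i = i * j := F.comm.symm
    have hiji : i * j * i = j := by rw [F.comm, mul_assoc, F.hi, mul_one]
    -- a normalising element cycling the involutions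
    obtain ⟨q, hqN, hqi, hqj⟩ : ∃ q ∈ normalizer (Q : Set G), q * i * q⁻¹ = j ∧ q * j * q⁻¹ = i * j := by
      rcases hj_ with r | r
      swap
      · exact ⟨h, hm, hi_, r.trans hji⟩
      rcases hj2 with r' | r'
      · refine ⟨h'⁻¹, inv_mem hm', ?_, ?_⟩
        · calc h'⁻¹ * i * h'⁻¹⁻¹ = h'⁻¹ * (h' * j * h'⁻¹) * h' := by rw [r']; group
            _ = j := by group
        · calc h'⁻¹ * j * h'⁻¹⁻¹ = h'⁻¹ * (h' * (i * j) * h'⁻¹) * h' := by
                rw [show h' * (i * j) * h'⁻¹ = (h' * i * h'⁻¹) * (h' * j * h'⁻¹) by group, hi2, r', hiji]; group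
            _ = i * j := by group
      · rw [hiji] at r'
        refine ⟨h' * h, mul_mem hm' hm, ?_, ?_⟩
        · rw [mul_inv_rev, show h' * h * i * (h⁻¹ * h'⁻¹) = h' * (h * i * h⁻¹) * h'⁻¹ by group, hi_, r']
        · rw [mul_inv_rev, show h' * h * j * (h⁻¹ * h'⁻¹) = h' * (h * j * h⁻¹) * h'⁻¹ by group, r, hi2]
    -- its three-part lies in `Q`
    obtain ⟨m, hm3, hpow⟩ : ∃ m : ℕ, ¬ 3 ∣ m ∧ ∃ n, (q ^ m) ^ (3 ^ n) = 1 := by
      refine ⟨ordCompl[3] (orderOf q), Nat.not_dvd_ordCompl Nat.prime_three (orderOf_pos q).ne',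
        (orderOf q).factorization 3, ?_⟩
      rw [← pow_mul, mul_comm, Nat.ordProj_mul_ordCompl_eq_self, pow_orderOf_eq_one]
    have hqm : q ^ m ∈ Q := by
      have hp : IsPGroup 3 (zpowers (q ^ m)) := by
        obtain ⟨n, hn⟩ := hpow
        rintro ⟨_, k, rfl⟩
        refine ⟨n, Subtype.ext ?_⟩
        show ((q ^ m) ^ k) ^ (3 ^ n) = 1
        rw [← zpow_natCast, ← zpow_mul, mul_comm, zpow_mul, zpow_natCast, hn, one_zpow]
      have hsup := hp.to_sup_of_normal_right' h3Q (zpowers_le.2 (pow_mem hqN m))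
      obtain ⟨P, hP⟩ := hsup.exists_le_sylow
      have hQP : Q = (P : Subgroup G) := Subgroup.eq_of_le_of_card_ge (le_sup_right.trans hP)
        (le_of_eq ((D.card_sylow P).trans hQ.symm))
      rw [hQP]
      exact hP (Subgroup.mem_sup_left (mem_zpowers _))
    have hqij : q * (i * j) * q⁻¹ = i := by
      rw [show q * (i * j) * q⁻¹ = (q * i * q⁻¹) * (q * j * q⁻¹) by group, hqi, hqj, ← mul_assoc, hji, mul_assoc, F.hj, mul_one]
    obtain ⟨t, ht, ht1, htm⟩ : ∃ t : G, (t = j ∨ t = i * j) ∧ t ≠ i ∧ q ^ m * i * (q ^ m)⁻¹ = t := by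
      have h3 : ∀ n : ℕ, q ^ n * i * (q ^ n)⁻¹ = if n % 3 = 0 then i else if n % 3 = 1 then j else i * j := by
        intro n
        induction n with
        | zero => simp
        | succ n ih =>
          rw [pow_succ', mul_inv_rev, show q * q ^ n * i * ((q ^ n)⁻¹ * q⁻¹) = q * (q ^ n * i * (q ^ n)⁻¹) * q⁻¹ by group, ih]
          rcases (show n % 3 = 0 ∨ n % 3 = 1 ∨ n % 3 = 2 by omega) with r | r | r <;>
            simp [r, Nat.add_mod, hqi, hqj, hqij]
      rw [h3 m]
      rcases (show m % 3 = 1 ∨ m % 3 = 2 by omega) with r | r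
      · exact ⟨j, Or.inl rfl, F.ne.symm, by simp [r]⟩
      · exact ⟨i * j, Or.inr rfl, fun e => F.hj1 (mul_eq_left.1 e), by simp [r]⟩
    have hQi := hnorm i (norm_root F R).1
    have htiQ : t * i ∈ Q := by
      have e : t * i = q ^ m * (i * (q ^ m)⁻¹ * i⁻¹) := by rw [← htm, hi']; group
      rw [e]
      exact mul_mem hqm (hQi _ (inv_mem hqm))
    have hti2 : (t * i) * (t * i) = 1 := by
      rcases ht with rfl | rfl
      · rw [hji]; exact F.right.hj
      · rw [hiji]; exact F.hj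
    obtain ⟨n, hn⟩ := h3Q ⟨_, htiQ⟩
    have hn' : (t * i) ^ (3 ^ n) = 1 := congrArg Subtype.val hn
    have hodd : (3 : ℕ) ^ n % 2 = 1 := by rw [Nat.pow_mod]; norm_num
    rw [← Nat.div_add_mod (3 ^ n) 2, hodd, pow_succ, pow_mul, pow_two, hti2, one_pow, one_mul] at hn'
    exact ht1 ((eq_inv_of_mul_eq_one_left hn').trans hi')
  refine ⟨hmain, ?_⟩
  have hxc : (⟨x, hxQ⟩ : Q) ∈ center Q := Subgroup.mem_center_iff.2 fun e => Subtype.ext (hQx e e.2)
  have hn : (zpowers (⟨x, hxQ⟩ : Q)).Normal := ⟨fun a ha g => by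
    rw [Subgroup.mem_center_iff.1 (zpowers_le.2 hxc ha) g, mul_inv_cancel_right]; exact ha⟩
  have hcq : IsMulCommutative (Q ⧸ zpowers (⟨x, hxQ⟩ : Q)) := by
    refine IsPGroup.isMulCommutative_of_card_eq_prime_sq (p := 3) ?_
    have hh := Subgroup.card_eq_card_quotient_mul_card_subgroup (zpowers (⟨x, hxQ⟩ : Q))
    rw [hQ, Nat.card_zpowers, ← Subgroup.orderOf_coe, orderOf_eq_prime (p := 3) (by rw [pow_succ', pow_two, R.cube]) R.ne] at hh
    omega
  have hcm : ∀ a b : G, a ∈ Q → b ∈ Q → a * b ≠ b * a → a * b * a⁻¹ * b⁻¹ = x ∨ a * b * a⁻¹ * b⁻¹ = x⁻¹ := by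
    intro a b ha hb hne
    have hmem : (⟨a, ha⟩ * ⟨b, hb⟩ * (⟨a, ha⟩ : Q)⁻¹ * (⟨b, hb⟩ : Q)⁻¹) ∈ zpowers (⟨x, hxQ⟩ : Q) := by
      rw [← QuotientGroup.eq_one_iff, QuotientGroup.mk_mul, QuotientGroup.mk_mul, QuotientGroup.mk_mul,
        QuotientGroup.mk_inv, QuotientGroup.mk_inv, hcq.is_comm.comm (QuotientGroup.mk (⟨a, ha⟩ : Q)),
        mul_inv_cancel_right, mul_inv_cancel]
    obtain ⟨n, hn⟩ := hmem
    have hn' : x ^ n = a * b * a⁻¹ * b⁻¹ := congrArg Subtype.val hn
    have h3 : x ^ (3 : ℤ) = 1 := by exact_mod_cast (show x ^ (3 : ℕ) = 1 by rw [pow_succ', pow_two, R.cube])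
    obtain ⟨m, rfl | rfl | rfl⟩ : ∃ m, n = 3 * m ∨ n = 3 * m + 1 ∨ n = 3 * m + 2 := ⟨n / 3, by omega⟩
    · rw [zpow_mul, h3, one_zpow] at hn'
      exact absurd (mul_inv_eq_iff_eq_mul.1 (mul_inv_eq_one.1 hn'.symm)) hne
    · rw [zpow_add, zpow_mul, h3, one_zpow, one_mul, zpow_one] at hn'; exact Or.inl hn'.symm
    · rw [zpow_add, zpow_mul, h3, one_zpow, one_mul, zpow_two, cube_sq R.cube] at hn'; exact Or.inr hn'.symm
  exact ⟨hcm y z hyQ hzQ (Ne.symm hmain), hcm z y hzQ hyQ hmain⟩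

end Data

end Cfsg.Lib.LThreeThree
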