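import Cfsg.Agent.Recognition.LinearThreeThree.Coords
import Cfsg.Agent.Classical.SL

/-!
The action on thirteen cosets agrees with the action of `SL(3,3)` on the plane of order three.
-/

set_option autoImplicit false
set_option maxRecDepth 8000

namespace Cfsg.Lib.LThreeThree

open Subgroup
open scoped Matrix

universe u

/-- A point of the plane of order three. -/
inductive Pt13
  | aff (α β : ZMod 3)
  | lin (β : ZMod 3)
  | inf
deriving DecidableEq, Fintype

namespace Pt13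

/-- The normalised vector of a point. -/
def vec : Pt13 → Fin 3 → ZMod 3
  | aff α β => ![1, α, β]
  | lin β => ![0, 1, β]
  | inf => ![0, 0, 1]

/-- The point of a vector. -/
def ofVec (v : Fin 3 → ZMod 3) : Pt13 :=
  if v 0 ≠ 0 then aff (v 1 * v 0) (v 2 * v 0) else if v 1 ≠ 0 then lin (v 2 * v 1) else inf

theorem ofVec_vec : ∀ P : Pt13, ofVec P.vec = P := by decide +kernel

theorem vec_ne : ∀ P : Pt13, P.vec ≠ 0 := by decide +kernel

theorem scale3 : ∀ x y z : ZMod 3, (![x, y, z] : Fin 3 → ZMod 3) ≠ 0 → ∃ c : ZMod 3, c ≠ 0 ∧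
    (ofVec ![x, y, z]).vec = c • ![x, y, z] := by decide +kernel

theorem inv3 : ∀ c x y z : ZMod 3, c ≠ 0 → ofVec (c • ![x, y, z]) = ofVec ![x, y, z] := by decide +kernel

theorem vec_eta (v : Fin 3 → ZMod 3) : ![v 0, v 1, v 2] = v := by ext i; fin_cases i <;> rfl

theorem scale (v : Fin 3 → ZMod 3) (hv : v ≠ 0) : ∃ c : ZMod 3, c ≠ 0 ∧ (ofVec v).vec = c • v := by
  have := scale3 (v 0) (v 1) (v 2) (by rwa [vec_eta])
  rwa [vec_eta] at this

theorem ofVec_smul (c : ZMod 3) (hc : c ≠ 0) (v : Fin 3 → ZMod 3) : ofVec (c • v) = ofVec v := by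
  have := inv3 c (v 0) (v 1) (v 2) hc
  rwa [vec_eta] at this

end Pt13

/-- The special linear group. -/
abbrev SL33 : Type := Matrix.SpecialLinearGroup (Fin 3) (ZMod 3)

instance : SMul SL33 Pt13 := ⟨fun A P => Pt13.ofVec ((A : Matrix (Fin 3) (Fin 3) (ZMod 3)) *ᵥ P.vec)⟩

theorem smul_pt (A : SL33) (P : Pt13) :
    A • P = Pt13.ofVec ((A : Matrix (Fin 3) (Fin 3) (ZMod 3)) *ᵥ P.vec) := rfl

theorem mulVec_mul (A B : SL33) (v : Fin 3 → ZMod 3) : ((A * B : SL33) : Matrix (Fin 3) (Fin 3) (ZMod 3)) *ᵥ v =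
    (A : Matrix (Fin 3) (Fin 3) (ZMod 3)) *ᵥ ((B : Matrix (Fin 3) (Fin 3) (ZMod 3)) *ᵥ v) :=
  (Matrix.mulVec_mulVec v A.1 B.1).symm

theorem mulVec_one' (v : Fin 3 → ZMod 3) : ((1 : SL33) : Matrix (Fin 3) (Fin 3) (ZMod 3)) *ᵥ v = v :=
  Matrix.one_mulVec v

instance : MulAction SL33 Pt13 where
  one_smul P := by rw [smul_pt, mulVec_one', Pt13.ofVec_vec]
  mul_smul A B P := by
    have : Fact (Nat.Prime 3) := ⟨Nat.prime_three⟩
    have hne : (B : Matrix (Fin 3) (Fin 3) (ZMod 3)) *ᵥ P.vec ≠ 0 := fun e => Pt13.vec_ne P (by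
      have h := mulVec_mul B⁻¹ B P.vec
      rwa [inv_mul_cancel, mulVec_one', e, Matrix.mulVec_zero] at h)
    obtain ⟨c, hc, e⟩ := Pt13.scale _ hne
    rw [smul_pt, smul_pt, smul_pt, e, Matrix.mulVec_smul, Pt13.ofVec_smul c hc, mulVec_mul]

def X12 : SL33 := ⟨!![1, 1, 0; 0, 1, 0; 0, 0, 1], by decide +kernel⟩
def X21 : SL33 := ⟨!![1, 0, 0; 1, 1, 0; 0, 0, 1], by decide +kernel⟩
def X32 : SL33 := ⟨!![1, 0, 0; 0, 1, 0; 0, 1, 1], by decide +kernel⟩
def X23 : SL33 := ⟨!![1, 0, 0; 0, 1, 1; 0, 0, 1], by decide +kernel⟩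

open Pt13 in
theorem acts :
    (∀ α β, X21 • aff α β = aff (α + 1) β) ∧ (∀ β, X21 • lin β = lin β) ∧ X21 • inf = inf ∧
    (∀ α β, X32 • aff α β = aff α (α + β)) ∧ (∀ β, X32 • lin β = lin (β + 1)) ∧ X32 • inf = inf ∧
    (∀ α β, X23 • aff α β = aff (α + β) β) ∧
    (X23 • lin 0 = lin 0 ∧ X23 • lin 1 = lin 2 ∧ X23 • lin 2 = inf) ∧ X23 • inf = lin 1 ∧
    (∀ β, X12 • aff 0 β = aff 0 β) ∧ (∀ β, X12 • aff 1 β = aff 2 (-β)) ∧ (∀ β, X12 • aff 2 β = lin (-β)) ∧
    (∀ β, X12 • lin β = aff 1 β) ∧ X12 • inf = inf := by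
  decide +kernel

variable {G : Type u} [Group G]

/-- A power with exponent modulo three. -/
def pw (x : G) (i : ZMod 3) : G := x ^ i.val

theorem pw_zero (x : G) : pw x 0 = 1 := pow_zero x
theorem pw_one (x : G) : pw x 1 = x := pow_one x

theorem pw_add {x : G} (hx : x * (x * x) = 1) (i j : ZMod 3) : pw x (i + j) = pw x i * pw x j := by
  unfold pw
  rw [ZMod.val_add, ← pow_add, eq_comm, pow_eq_pow_mod (i.val + j.val)
    (show x ^ 3 = 1 by rw [pow_succ', pow_two, hx])]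

theorem pw_neg {x : G} (hx : x * (x * x) = 1) (i : ZMod 3) : pw x (-i) = (pw x i)⁻¹ := by
  refine eq_inv_of_mul_eq_one_left ?_
  rw [← pw_add hx, neg_add_cancel, pw_zero]

theorem pw_two {x : G} (hx : x * (x * x) = 1) : pw x 2 = x⁻¹ := by
  show x ^ 2 = x⁻¹
  rw [pow_two]; exact (inv_eq_of_mul_eq_one_right hx).symm

theorem conj_pw (c x : G) (i : ZMod 3) : c * pw x i * c⁻¹ = pw (c * x * c⁻¹) i := conj_pow.symm

theorem pw_mul {x y : G} (h : Commute x y) (i : ZMod 3) : pw (x * y) i = pw x i * pw y i := h.mul_pow _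

theorem pw_inv (x : G) (i : ZMod 3) : pw x⁻¹ i = (pw x i)⁻¹ := inv_pow _ _

theorem pw_eq_one {x : G} (hx : x * (x * x) = 1) (hx1 : x ≠ 1) : ∀ i : ZMod 3, pw x i = 1 → i = 0 := by
  intro i
  fin_cases i
  · exact fun _ => rfl
  · intro h; exact absurd ((pw_one x).symm.trans h) hx1
  · intro h; exact absurd (inv_eq_one.1 ((pw_two hx).symm.trans h)) hx1

theorem step {c x q : G} (h : c * x * c⁻¹ = x * q) (hq : c * q = q * c) (i : ZMod 3) :
    pw c i * x = x * pw q i * pw c i := by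
  unfold pw
  induction i.val with
  | zero => simp
  | succ n ih =>
    calc c ^ (n + 1) * x = c * (c ^ n * x) := by rw [pow_succ', mul_assoc]
      _ = (c * x * c⁻¹) * (c * q ^ n) * c ^ n := by rw [ih]; group
      _ = x * q * (q ^ n * c) * c ^ n := by rw [h, (Commute.pow_right hq n).eq]
      _ = _ := by rw [pow_succ', pow_succ']; group

namespace Coords

variable (K : Coords G)

/-- The elementary subgroup fixing a point. -/
def E : Subgroup G where
  carrier := {g | ∃ i j : ℤ, g = K.a ^ i * K.b ^ j}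
  one_mem' := ⟨0, 0, by simp⟩
  mul_mem' := by
    rintro _ _ ⟨i, j, rfl⟩ ⟨i', j', rfl⟩
    have h : Commute K.a K.b := K.ab
    exact ⟨i + i', j + j', by
      rw [zpow_add, zpow_add, mul_assoc, ← mul_assoc (K.b ^ j), ← (h.zpow_zpow i' j).eq]; group⟩
  inv_mem' := by
    rintro _ ⟨i, j, rfl⟩
    have h : Commute K.a K.b := K.ab
    exact ⟨-i, -j, by rw [mul_inv_rev, ← zpow_neg, ← zpow_neg]; exact ((h.zpow_zpow (-i) (-j)).eq).symm⟩

theorem a_mem : K.a ∈ K.E := ⟨1, 0, by simp⟩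
theorem b_mem : K.b ∈ K.E := ⟨0, 1, by simp⟩

/-- The stabiliser of a point. -/
def M : Subgroup G := K.E ⊔ centralizer ({K.u} : Set G)

theorem aM : K.a ∈ K.M := mem_sup_left K.a_mem
theorem bM : K.b ∈ K.M := mem_sup_left K.b_mem
theorem dM : K.d ∈ K.M := mem_sup_right (mem_centralizer_singleton_iff.2 K.du)
theorem ccM : K.cc ∈ K.M := mem_sup_right (mem_centralizer_singleton_iff.2 K.ccu)
theorem tM : K.t ∈ K.M := mem_sup_right (mem_centralizer_singleton_iff.2 K.htu)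
theorem uM : K.u ∈ K.M := mem_sup_right (mem_centralizer_singleton_iff.2 rfl)
theorem pwM {x : G} (h : x ∈ K.M) (i : ZMod 3) : pw x i ∈ K.M := pow_mem h _

variable [Finite G]

theorem normE {g : G} (hg : g * K.u = K.u * g) : g ∈ normalizer (K.E : Set G) := by
  refine ((closure_le _).2 ?_) (K.gen g hg)
  have key : ∀ x : G, x * K.a * x⁻¹ ∈ K.E → x * K.b * x⁻¹ ∈ K.E → x ∈ normalizer (K.E : Set G) := by
    intro x h1 h2
    refine mem_normalizer_iff_map_conj_eq.2 (Subgroup.eq_of_le_of_card_ge ?_ ?_)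
    · rintro _ ⟨e, ⟨i, j, rfl⟩, rfl⟩
      show x * (K.a ^ i * K.b ^ j) * x⁻¹ ∈ K.E
      rw [show x * (K.a ^ i * K.b ^ j) * x⁻¹ = (x * K.a ^ i * x⁻¹) * (x * K.b ^ j * x⁻¹) by group, ← conj_zpow, ← conj_zpow]
      exact mul_mem (zpow_mem h1 _) (zpow_mem h2 _)
    · rw [Subgroup.card_map_of_injective (MulAut.conj x).injective]
  rintro x (rfl | rfl | rfl)
  · refine key _ (by rw [conj_fix K.ad.symm]; exact K.a_mem) ?_
    rcases K.dB with r | r <;> rw [r]
    exacts [mul_mem K.b_mem K.a_mem, mul_mem K.b_mem (inv_mem K.a_mem)]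
  · refine key _ ?_ (by rw [conj_fix K.bcc.symm]; exact K.b_mem)
    rcases K.ccA with r | r <;> rw [r]
    exacts [mul_mem K.a_mem K.b_mem, mul_mem K.a_mem (inv_mem K.b_mem)]
  · have e : K.t⁻¹ = K.t := inv_eq_of_mul_eq_one_right K.ht
    refine key _ (by rw [e, K.ta]; exact K.a_mem) (by rw [e, K.tb]; exact inv_mem K.b_mem)

theorem M_le : K.M ≤ normalizer (K.E : Set G) :=
  sup_le le_normalizer fun g hg => K.normE (mem_centralizer_singleton_iff.1 hg)

theorem a'_not : K.a' ∉ normalizer (K.E : Set G) := by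
  intro h
  obtain ⟨i, j, e⟩ := (mem_normalizer_iff.1 h K.a).1 K.a_mem
  have ht : K.t⁻¹ = K.t := inv_eq_of_mul_eq_one_right K.ht
  have e1 : K.t * (K.a' * K.a * K.a'⁻¹) * K.t⁻¹ = K.a' * K.a * K.a'⁻¹ := by
    rw [show K.t * (K.a' * K.a * K.a'⁻¹) * K.t⁻¹ = (K.t * K.a' * K.t⁻¹) * (K.t * K.a * K.t⁻¹) * (K.t * K.a' * K.t⁻¹)⁻¹ by group,
      ht, K.ta, K.ta']
  rw [e, show K.t * (K.a ^ i * K.b ^ j) * K.t⁻¹ = (K.t * K.a ^ i * K.t⁻¹) * (K.t * K.b ^ j * K.t⁻¹) by group,
    ← conj_zpow, ← conj_zpow, ht, K.ta, K.tb, inv_zpow, mul_right_inj] at e1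
  have h2 : K.b ^ j = 1 := by
    refine eq_one_of_sq_of_cube ?_ ?_
    · nth_rw 1 [← e1]; exact inv_mul_cancel _
    · rw [← zpow_add, ← zpow_add, show j + (j + j) = 3 * j by ring, zpow_mul,
        show K.b ^ (3 : ℤ) = 1 from by exact_mod_cast (show K.b ^ (3 : ℕ) = 1 by rw [pow_succ', pow_two, K.cb]), one_zpow]
  rw [h2, mul_one] at e
  exact K.not_norm i e

theorem a'_notM : K.a' ∉ K.M := fun h => K.a'_not (K.M_le h)

theorem gen_top (simple : IsSimpleGroup G) (card : Nat.card G = 5616) :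
    closure ({K.a, K.a', K.cc, K.d} : Set G) = ⊤ := by
  classical
  obtain ⟨T, hT⟩ : ∃ T, T = closure ({K.a, K.a', K.cc, K.d} : Set G) := ⟨_, rfl⟩
  rw [← hT]
  have ha : K.a ∈ T := hT ▸ subset_closure (by simp)
  have ha' : K.a' ∈ T := hT ▸ subset_closure (by simp)
  have hcc : K.cc ∈ T := hT ▸ subset_closure (by simp)
  have hd : K.d ∈ T := hT ▸ subset_closure (by simp)
  have hw : K.w ∈ T := K.hw ▸ mul_mem (mul_mem ha (inv_mem ha')) ha
  have hn : K.n ∈ T := K.hn ▸ mul_mem (mul_mem hd (inv_mem hcc)) hd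
  have ht : K.t ∈ T := K.ww ▸ mul_mem hw hw
  have hb : K.b ∈ T := by
    have h := mul_mem (mul_mem (inv_mem hn) ha) hn
    rcases K.nan with r | r <;> rw [r] at h
    exacts [h, by simpa using inv_mem h]
  have hC : ∀ c : centralizer ({K.u} : Set G), (c : G) ∈ T := fun c =>
    (closure_le T).2 (by rintro x (rfl | rfl | rfl) <;> assumption) (K.gen c (mem_centralizer_singleton_iff.1 c.2))
  let f : Option ((ZMod 3 × ZMod 3) × centralizer ({K.u} : Set G)) → T := fun o => o.elim ⟨K.a', ha'⟩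
    fun p => ⟨pw K.a p.1.1 * pw K.b p.1.2 * (p.2 : G), mul_mem (mul_mem (pow_mem ha _) (pow_mem hb _)) (hC _)⟩
  have hinM : ∀ p : (ZMod 3 × ZMod 3) × centralizer ({K.u} : Set G), (f (some p) : G) ∈ K.M := fun p =>
    mul_mem (mul_mem (K.pwM K.aM _) (K.pwM K.bM _)) (mem_sup_right p.2.2)
  have hinj : Function.Injective f := by
    rintro (_ | ⟨⟨i, j⟩, c⟩) (_ | ⟨⟨i', j'⟩, c'⟩) h
    · rfl
    · exfalso
      have e : K.a' = f (some ((i', j'), c')) := congrArg Subtype.val h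
      exact K.a'_notM (e ▸ hinM _)
    · exfalso
      have e : (f (some ((i, j), c)) : G) = K.a' := congrArg Subtype.val h
      exact K.a'_notM (e ▸ hinM _)
    · have e : pw K.a i * pw K.b j * (c : G) = pw K.a i' * pw K.b j' * (c' : G) := congrArg Subtype.val h
      have hab : Commute K.a K.b := K.ab
      obtain ⟨z, hz⟩ : ∃ z, z = pw K.a (-i' + i) * pw K.b (-j' + j) := ⟨_, rfl⟩
      have hzc : z = (c' : G) * (c : G)⁻¹ := by
        rw [hz, pw_add K.ca, pw_add K.cb, pw_neg K.ca, pw_neg K.cb]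
        have hcm : Commute (pw K.b j')⁻¹ ((pw K.a i')⁻¹ * pw K.a i) :=
          (show Commute (pw K.b j') (pw K.a i') from (hab.symm.pow_pow _ _)).inv_inv.mul_right
            (show Commute (pw K.b j') (pw K.a i) from (hab.symm.pow_pow _ _)).inv_left
        calc (pw K.a i')⁻¹ * pw K.a i * ((pw K.b j')⁻¹ * pw K.b j)
            = ((pw K.b j')⁻¹ * ((pw K.a i')⁻¹ * pw K.a i)) * pw K.b j := by rw [hcm.eq]; group
          _ = (pw K.b j')⁻¹ * (pw K.a i')⁻¹ * (pw K.a i * pw K.b j * c) * (c : G)⁻¹ := by group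
          _ = _ := by rw [e]; group
      have hu' : K.u⁻¹ = K.u := inv_eq_of_mul_eq_one_right K.hu
      have h1 : K.u * z * K.u⁻¹ = z := by
        refine conj_fix ?_
        rw [hzc]
        exact (Commute.mul_right (show Commute K.u (c' : G) from (mem_centralizer_singleton_iff.1 c'.2).symm)
          (show Commute K.u (c : G) from (mem_centralizer_singleton_iff.1 c.2).symm).inv_right).eq
      rw [hz, show K.u * (pw K.a (-i' + i) * pw K.b (-j' + j)) * K.u⁻¹
          = (K.u * pw K.a (-i' + i) * K.u⁻¹) * (K.u * pw K.b (-j' + j) * K.u⁻¹) by group,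
        conj_pw, conj_pw, hu', K.ua, K.ub, pw_inv, pw_inv, ← pw_neg K.ca, ← pw_neg K.cb] at h1
      obtain ⟨x, hx⟩ : ∃ x, x = -i' + i := ⟨_, rfl⟩
      obtain ⟨y, hy⟩ : ∃ y, y = -j' + j := ⟨_, rfl⟩
      rw [← hx, ← hy, pw_neg K.ca, pw_neg K.cb] at h1
      have h2 : pw K.a (x + x) * pw K.b (y + y) = 1 := by
        rw [pw_add K.ca, pw_add K.cb]
        calc pw K.a x * pw K.a x * (pw K.b y * pw K.b y) = pw K.a x * (pw K.a x * pw K.b y) * pw K.b y := by group
          _ = pw K.a x * ((pw K.a x)⁻¹ * (pw K.b y)⁻¹) * pw K.b y := by rw [h1]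
          _ = 1 := by group
      have h3 : pw K.a (x + x) * pw K.b (-(y + y)) = 1 := by
        have := congrArg (fun g => K.t * g * K.t⁻¹) h2
        simp only [mul_one, mul_inv_cancel] at this
        rwa [show K.t * (pw K.a (x + x) * pw K.b (y + y)) * K.t⁻¹
            = (K.t * pw K.a (x + x) * K.t⁻¹) * (K.t * pw K.b (y + y) * K.t⁻¹) by group,
          conj_pw, conj_pw, inv_eq_of_mul_eq_one_right K.ht, K.ta, K.tb, pw_inv, ← pw_neg K.cb] at this
      have h4 : pw K.b (y + y + (y + y)) = 1 := by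
        rw [pw_add K.cb (y + y)]
        nth_rw 1 [← mul_left_cancel (h3.trans h2.symm)]
        rw [pw_neg K.cb, inv_mul_cancel]
      have hj : y + y = 0 := (by decide : ∀ z : ZMod 3, z + z = 0 → z = 0) _ (pw_eq_one K.cb K.nb _ h4)
      rw [hj, pw_zero, mul_one] at h2
      have hi : x + x = 0 := pw_eq_one K.ca K.na _ h2
      rw [hx] at hi
      rw [hy] at hj
      have dd : ∀ p q : ZMod 3, -q + p + (-q + p) = 0 → p = q := by decide
      obtain rfl := dd _ _ hi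
      obtain rfl := dd _ _ hj
      obtain rfl : c = c' := Subtype.ext (mul_left_cancel e)
      rfl
  have hle : 433 ≤ Nat.card T := by
    have h := Nat.card_le_card_of_injective f hinj
    rwa [Finite.card_option, Nat.card_prod, Nat.card_prod, Nat.card_zmod, K.card_u] at h
  have hmul := card_mul_index T
  rw [card] at hmul
  by_contra htop
  have hidx : T.index ≤ 12 := by
    by_contra hgt
    have : 433 * 13 ≤ Nat.card T * T.index := Nat.mul_le_mul hle (by omega)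
    omega
  have hcore : T.normalCore = ⊥ := by
    rcases (inferInstance : T.normalCore.Normal).eq_bot_or_eq_top with k | k
    · exact k
    · exact absurd (top_le_iff.1 (k ▸ normalCore_le T)) htop
  rw [normalCore_eq_ker, MonoidHom.ker_eq_bot_iff] at hcore
  have hd13 := Subgroup.card_dvd_of_injective _ hcore
  rw [card, Nat.card_perm, ← Subgroup.index] at hd13
  have h13 : 13 ∣ Nat.factorial T.index := (Dvd.intro 432 rfl : 13 ∣ 5616).trans hd13
  have := ((by norm_num : Nat.Prime 13).dvd_factorial).1 h13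
  omega

/-- The coset of a point. -/
def pt : Pt13 → G ⧸ K.M
  | .aff α β => QuotientGroup.mk (pw K.a' α * pw K.b' β)
  | .lin β => QuotientGroup.mk (pw K.d β * K.w)
  | .inf => QuotientGroup.mk (K.n * K.w)

omit [Finite G] in
theorem mk_eq {x y m : G} (hm : m ∈ K.M) (h : x = y * m) : (QuotientGroup.mk x : G ⧸ K.M) = QuotientGroup.mk y := by
  rw [h, QuotientGroup.mk_mul_of_mem _ hm]

theorem wconj_b' (i : ZMod 3) : K.w⁻¹ * pw K.b' i * K.w ∈ K.M := by
  have e : K.w⁻¹ * K.b' * K.w = K.t * K.d⁻¹ * K.t := by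
    have h : K.t⁻¹ = K.t := inv_eq_of_mul_eq_one_right K.ht
    rw [← K.wb']
    nth_rw 1 [← h]
    rw [← K.ww]; group
  have := conj_pw K.w⁻¹ K.b' i
  rw [inv_inv] at this
  rw [this, e]
  exact K.pwM (mul_mem (mul_mem K.tM (inv_mem K.dM)) K.tM) _

theorem wcc : K.w⁻¹ * K.cc * K.w ∈ K.M := by
  rcases K.wccw with r | r <;> rw [r]
  exacts [K.bM, inv_mem K.bM]

theorem wb : K.w⁻¹ * K.b * K.w ∈ K.M := by
  rcases K.wbw with r | r <;> rw [r]
  exacts [K.ccM, inv_mem K.ccM]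

theorem wu : K.w⁻¹ * K.u * K.w ∈ K.M := by rw [K.wuw]; exact mul_mem K.tM K.uM

theorem act_a' (P : Pt13) : K.pt (X21 • P) = K.a' • K.pt P := by
  obtain ⟨h1, h2, h3, -⟩ := acts
  cases P with
  | aff α β =>
    rw [h1]
    show QuotientGroup.mk _ = QuotientGroup.mk (K.a' * _)
    rw [add_comm α, pw_add K.ca', pw_one, mul_assoc]
  | lin β =>
    rw [h2]
    show QuotientGroup.mk _ = QuotientGroup.mk (K.a' * _)
    refine (K.mk_eq (m := (K.w⁻¹ * K.a' * K.w) * (K.w⁻¹ * pw K.b' (-β) * K.w))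
      (mul_mem (by rw [K.wa'w]; exact inv_mem K.aM) (K.wconj_b' _)) ?_).symm
    have h := step K.r2 K.db' (-β)
    rw [pw_neg K.cd] at h
    calc K.a' * (pw K.d β * K.w) = pw K.d β * ((pw K.d β)⁻¹ * K.a') * pw K.d β * K.w := by group
      _ = _ := by rw [h]; group
  | inf =>
    rw [h3]
    show QuotientGroup.mk _ = QuotientGroup.mk (K.a' * _)
    refine (K.mk_eq (m := K.w⁻¹ * pw K.b' 2 * K.w) (K.wconj_b' _) ?_).symm
    have e : K.n⁻¹ * K.a' * K.n = K.b'⁻¹ := by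
      have hu : K.u⁻¹ = K.u := inv_eq_of_mul_eq_one_right K.hu
      have hb : K.u * K.b' * K.u = K.b'⁻¹ := by
        rw [← K.na'n]
        have hcn : K.u * K.n = K.n * K.u := by rw [← K.nn, mul_assoc]
        calc K.u * (K.n * K.a' * K.n⁻¹) * K.u = (K.u * K.n) * K.a' * (K.n⁻¹ * K.u) := by group
          _ = K.n * (K.u * K.a' * K.u) * K.n⁻¹ := by
            rw [hcn, ← (show Commute K.u K.n from hcn).inv_right.eq]; group
          _ = _ := by rw [K.ua']; group
      rw [← hb, ← K.na'n]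
      nth_rw 1 [← hu]
      rw [← K.nn]; group
    rw [pw_two K.cb', ← e]; group

theorem act_d (P : Pt13) : K.pt (X32 • P) = K.d • K.pt P := by
  obtain ⟨-, -, -, h1, h2, h3, -⟩ := acts
  cases P with
  | aff α β =>
    rw [h1]
    show QuotientGroup.mk _ = QuotientGroup.mk (K.d * _)
    refine (K.mk_eq K.dM ?_).symm
    calc K.d * (pw K.a' α * pw K.b' β) = (K.d * pw K.a' α * K.d⁻¹) * (K.d * pw K.b' β) := by group
      _ = pw K.a' α * pw K.b' α * (pw K.b' β * K.d) := by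
        rw [conj_pw, K.r2, pw_mul K.a'b', (show Commute K.d (pw K.b' β) from Commute.pow_right K.db' _).eq]
      _ = _ := by rw [pw_add K.cb']; group
  | lin β =>
    rw [h2]
    show QuotientGroup.mk _ = QuotientGroup.mk (K.d * _)
    rw [add_comm β, pw_add K.cd, pw_one, mul_assoc]
  | inf =>
    rw [h3]
    show QuotientGroup.mk _ = QuotientGroup.mk (K.d * _)
    refine (K.mk_eq (m := (K.w⁻¹ * K.cc * K.w)⁻¹) (inv_mem K.wcc) ?_).symm
    rw [show K.d * (K.n * K.w) = K.n * (K.n⁻¹ * K.d * K.n) * K.w by group, K.ndn]; group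

theorem act_cc (P : Pt13) : K.pt (X23 • P) = K.cc • K.pt P := by
  obtain ⟨-, -, -, -, -, -, h1, ⟨h20, h21, h22⟩, h3, -⟩ := acts
  cases P with
  | aff α β =>
    rw [h1]
    show QuotientGroup.mk _ = QuotientGroup.mk (K.cc * _)
    refine (K.mk_eq K.ccM ?_).symm
    calc K.cc * (pw K.a' α * pw K.b' β) = (K.cc * pw K.a' α) * pw K.b' β := by group
      _ = pw K.a' α * (K.cc * pw K.b' β * K.cc⁻¹) * K.cc := by
        rw [(show Commute K.cc (pw K.a' α) from Commute.pow_right K.acc.symm _).eq]; group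
      _ = pw K.a' α * (pw K.b' β * pw K.a' β) * K.cc := by
        rw [conj_pw, K.r1, pw_mul (show Commute K.b' K.a' from K.a'b'.symm)]
      _ = _ := by
        rw [(show Commute (pw K.b' β) (pw K.a' β) from (Commute.pow_pow K.a'b'.symm _ _)).eq, pw_add K.ca']; group
  | lin β =>
    fin_cases β
    · show K.pt (X23 • Pt13.lin 0) = QuotientGroup.mk (K.cc * (pw K.d 0 * K.w))
      rw [h20]
      refine (K.mk_eq K.wcc ?_).symm
      rw [pw_zero]; group
    · show K.pt (X23 • Pt13.lin 1) = QuotientGroup.mk (K.cc * (pw K.d 1 * K.w))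
      rw [h21]
      refine (K.mk_eq (m := (K.w⁻¹ * K.u * K.w) * (K.w⁻¹ * K.cc * K.w)⁻¹) (mul_mem K.wu (inv_mem K.wcc)) ?_).symm
      rw [pw_one, pw_two K.cd, show K.cc * (K.d * K.w) = K.d⁻¹ * (K.d * K.cc * K.d) * K.w by group, K.dcd]; group
    · show K.pt (X23 • Pt13.lin 2) = QuotientGroup.mk (K.cc * (pw K.d 2 * K.w))
      rw [h22]
      refine (K.mk_eq (m := (K.w⁻¹ * K.u * K.w) * (K.w⁻¹ * K.cc * K.w)⁻¹) (mul_mem K.wu (inv_mem K.wcc)) ?_).symm
      rw [pw_two K.cd, show K.cc * (K.d⁻¹ * K.w) = K.n * (K.n⁻¹ * K.cc * K.d⁻¹) * K.w by group, K.ncd]; group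
  | inf =>
    rw [h3]
    show QuotientGroup.mk _ = QuotientGroup.mk (K.cc * _)
    refine (K.mk_eq (m := (K.w⁻¹ * K.cc * K.w)⁻¹) (inv_mem K.wcc) ?_).symm
    rw [pw_one, ← mul_assoc, K.ccn]; group

theorem act_a (P : Pt13) : K.pt (X12 • P) = K.a • K.pt P := by
  obtain ⟨-, -, -, -, -, -, -, -, -, h0, h1, h2, h3, h4⟩ := acts
  have haba : K.a⁻¹ * K.b' * K.a = K.b' * K.d := by
    have h : Commute K.a⁻¹ K.d := (show Commute K.a K.d from K.ad).inv_left
    calc K.a⁻¹ * K.b' * K.a = K.a⁻¹ * (K.b' * K.d⁻¹) * K.d * K.a := by group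
      _ = K.a⁻¹ * (K.a * K.b' * K.a⁻¹) * (K.d * K.a) := by rw [K.r3]; group
      _ = _ := by rw [← K.ad]; group
  have hbd : Commute K.b' K.d := K.db'.symm
  have hab' : ∀ β, K.a⁻¹ * pw K.b' β = pw K.b' β * pw K.d β * K.a⁻¹ := by
    intro β
    have := conj_pw K.a⁻¹ K.b' β
    rw [inv_inv, haba, pw_mul hbd] at this
    rw [← this]; group
  cases P with
  | aff α β =>
    fin_cases α
    · show K.pt (X12 • Pt13.aff 0 β) = QuotientGroup.mk (K.a * (pw K.a' 0 * pw K.b' β))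
      rw [h0]
      refine (K.mk_eq (m := (pw K.d β)⁻¹ * K.a) (mul_mem (inv_mem (K.pwM K.dM _)) K.aM) ?_).symm
      rw [pw_zero, one_mul, show K.a * pw K.b' β = (K.a * pw K.b' β * K.a⁻¹) * K.a by group, conj_pw,
        K.r3, pw_mul hbd.inv_right, pw_inv]
      group
    · show K.pt (X12 • Pt13.aff 1 β) = QuotientGroup.mk (K.a * (pw K.a' 1 * pw K.b' β))
      rw [h1]
      refine (K.mk_eq (m := K.t * pw K.d β * K.a⁻¹) (mul_mem (mul_mem K.tM (K.pwM K.dM _)) (inv_mem K.aM)) ?_).symm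
      have ht' : K.t⁻¹ = K.t := inv_eq_of_mul_eq_one_right K.ht
      have htb : K.t * pw K.b' β = pw K.b' (-β) * K.t := by
        have := conj_pw K.t K.b' β
        rw [ht', K.tb', pw_inv, ← pw_neg K.cb'] at this
        rw [← this, mul_assoc, K.ht, mul_one]
      calc K.a * (pw K.a' 1 * pw K.b' β) = K.a'⁻¹ * K.t * (K.a⁻¹ * pw K.b' β) := by
            rw [pw_one, ← mul_assoc, K.aa']; group
        _ = K.a'⁻¹ * (K.t * pw K.b' β) * pw K.d β * K.a⁻¹ := by rw [hab']; group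
        _ = _ := by rw [htb, pw_two K.ca']; group
    · show K.pt (X12 • Pt13.aff 2 β) = QuotientGroup.mk (K.a * (pw K.a' 2 * pw K.b' β))
      rw [h2]
      refine (K.mk_eq (m := pw K.d β * K.a⁻¹) (mul_mem (K.pwM K.dM _) (inv_mem K.aM)) ?_).symm
      have e : K.w * pw K.b' β = pw K.d (-β) * K.w := by
        have := conj_pw K.w K.b' β
        rw [K.wb', pw_inv, ← pw_neg K.cd] at this
        rw [← this]; group
      calc K.a * (pw K.a' 2 * pw K.b' β) = K.w * (K.a⁻¹ * pw K.b' β) := by rw [pw_two K.ca', K.hw]; group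
        _ = (K.w * pw K.b' β) * pw K.d β * K.a⁻¹ := by rw [hab']; group
        _ = _ := by rw [e]; group
  | lin β =>
    rw [h3]
    show QuotientGroup.mk _ = QuotientGroup.mk (K.a * _)
    refine (K.mk_eq (m := pw K.d β * K.t * K.a⁻¹) (mul_mem (mul_mem (K.pwM K.dM _) K.tM) (inv_mem K.aM)) ?_).symm
    calc K.a * (pw K.d β * K.w) = pw K.d β * (K.a * K.w) := by
          rw [← mul_assoc, (show Commute K.a (pw K.d β) from Commute.pow_right K.ad _).eq, mul_assoc]
      _ = pw K.d β * K.a' * (K.t * K.a⁻¹) := by rw [K.aw]; group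
      _ = _ := by rw [step K.r2 K.db' β, pw_one]; group
  | inf =>
    rw [h4]
    show QuotientGroup.mk _ = QuotientGroup.mk (K.a * _)
    refine (K.mk_eq (m := K.w⁻¹ * (K.n⁻¹ * K.a * K.n) * K.w) ?_ (by group)).symm
    rcases K.nan with r | r <;> rw [r]
    · exact K.wb
    · rw [show K.w⁻¹ * K.b⁻¹ * K.w = (K.w⁻¹ * K.b * K.w)⁻¹ by group]; exact inv_mem K.wb

end Coords

end Cfsg.Lib.LThreeThree
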